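import Groth.Agent.EGA43.Chevalley.Tfae

/-!
# Bounds and semicontinuity for dimensions of fibres
-/

set_option autoImplicit false
set_option backward.isDefEq.respectTransparency false
set_option linter.style.haveILetI false

universe u

open CategoryTheory CategoryTheory.Limits AlgebraicGeometry TopologicalSpace

namespace Groth.Agent.EGA43.Chevalley

open Groth.Agent FlatMorWeight

variable {X Y : Scheme.{u}} (f : X ⟶ Y) [LocallyOfFiniteType f]

theorem fiber_dim_eq_generic [IrreducibleSpace X] [IrreducibleSpace Y] [IsDominant f] :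
    topologicalKrullDim ↥(f.fiber (genericPoint Y)) =
      (DimLib.trdegHom (f.residueFieldMap (genericPoint X)).hom : WithBot ℕ∞) := by
  have hξ : f (genericPoint X) = genericPoint Y := Unibranch.map_genericPoint_of_isDominant f
  refine le_antisymm ((FlatMorDim.fiber_dim_le_iff f _ _).2 fun w hw =>
    trdegHom_le_of_specializes f (genericPoint_specializes w) (hξ.trans hw.symm)) ?_
  haveI : LocallyOfFiniteType (f.fiberToSpecResidueField (genericPoint Y)) :=
    inferInstanceAs (LocallyOfFiniteType (Limits.pullback.snd f (Y.fromSpecResidueField (genericPoint Y))))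
  obtain ⟨a, ha⟩ : genericPoint X ∈ Set.range (f.fiberι (genericPoint Y)) := by
    rw [f.range_fiberι]; exact hξ
  have h := DimLib.ptDim_le_topologicalKrullDim (k := Y.residueField (genericPoint Y))
    (f.fiberToSpecResidueField (genericPoint Y)) a
  rw [EGA43.FibDepth.ptDim_fiber f, ha] at h
  exact h

/-- EGA IV 13.1.1. -/
theorem fiber_dim_generic_le_fibreDimAt [IrreducibleSpace X] [IrreducibleSpace Y] [IsDominant f]
    (x : X) : topologicalKrullDim ↥(f.fiber (genericPoint Y)) ≤ FlatMor.fibreDimAt f x := by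
  rw [fiber_dim_eq_generic f]
  obtain ⟨z, -, -, -, hz⟩ := exists_maximal_fibreDimAt f x
  rw [hz]
  exact_mod_cast trdegHom_le_fibreDimAt f (genericPoint_specializes x) _ hz.le

theorem le_fiber_dim_iff (y : Y) (n : ℕ) :
    (n : WithBot ℕ∞) ≤ topologicalKrullDim ↥(f.fiber y) ↔
      ∃ x, f x = y ∧ n ≤ DimLib.trdegHom (f.residueFieldMap x).hom := by
  constructor
  · intro h
    by_contra hno
    push Not at hno
    rcases n with _ | m
    · have hy : y ∉ Set.range f := fun ⟨x, hx⟩ => absurd (hno x hx) (Nat.not_lt_zero _)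
      exact absurd (h.trans ((FlatMorDim.fiber_dim_le_bot_iff f y).2 hy)) (by simp)
    · have h1 := h.trans ((FlatMorDim.fiber_dim_le_iff f y m).2 fun x hx => Nat.lt_succ_iff.1 (hno x hx))
      have h2 : m + 1 ≤ m := by exact_mod_cast h1
      omega
  · rintro ⟨x, rfl, hx⟩
    haveI : LocallyOfFiniteType (f.fiberToSpecResidueField (f x)) :=
      inferInstanceAs (LocallyOfFiniteType (Limits.pullback.snd f (Y.fromSpecResidueField (f x))))
    have h := DimLib.ptDim_le_topologicalKrullDim (k := Y.residueField (f x))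
      (f.fiberToSpecResidueField (f x)) (f.asFiber x)
    rw [EGA43.FibDepth.ptDim_fiber f, f.fiberι_asFiber] at h
    exact le_trans (by exact_mod_cast hx) h

/-- EGA IV 13.1.5. -/
theorem isClosed_setOf_le_fiber_dim (hf : IsClosedMap f.base) (n : ℕ) :
    IsClosed {y : Y | (n : WithBot ℕ∞) ≤ topologicalKrullDim ↥(f.fiber y)} := by
  have : {y : Y | (n : WithBot ℕ∞) ≤ topologicalKrullDim ↥(f.fiber y)} =
      f.base '' {a : X | ∃ z, z ⤳ a ∧ f z = f a ∧ n ≤ DimLib.trdegHom (f.residueFieldMap z).hom} := by
    ext y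
    simp only [Set.mem_ofPred_eq, Set.mem_image, le_fiber_dim_iff f]
    exact ⟨fun ⟨x, hx, hn⟩ => ⟨x, ⟨x, specializes_rfl, rfl, hn⟩, hx⟩,
      fun ⟨a, ⟨z, _, hz, hn⟩, ha⟩ => ⟨z, hz.trans ha, hn⟩⟩
  rw [this]
  exact hf _ (isClosed_setOf_exists_le f n)

/-- EGA IV 13.1.7. -/
theorem exists_fiber_dim_le [CompactSpace Y] [QuasiCompact f] :
    ∃ n : ℕ, ∀ y : Y, topologicalKrullDim ↥(f.fiber y) ≤ n := by
  haveI : CompactSpace X := QuasiCompact.compactSpace_of_compactSpace f
  have hopen : ∀ x : X, ∃ N, ∃ O : Set X, IsOpen O ∧ x ∈ O ∧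
      ∀ w ∈ O, DimLib.trdegHom (f.residueFieldMap w).hom ≤ N := fun x => by
    obtain ⟨z, -, -, -, hz⟩ := exists_maximal_fibreDimAt f x
    exact ⟨_, _, FlatMorDim.isOpen_fibreDimAt_le f _, hz.le,
      fun w hw => FlatMorDim.trdegHom_le_of_fibreDimAt_le f w _ hw⟩
  choose N O hO hxO hN using hopen
  obtain ⟨t, ht⟩ := isCompact_univ.elim_finite_subcover O hO fun x _ => Set.mem_iUnion.2 ⟨x, hxO x⟩
  refine ⟨t.sup N, fun y => (FlatMorDim.fiber_dim_le_iff f y _).2 fun x _ => ?_⟩
  obtain ⟨i, hi, hxi⟩ := Set.mem_iUnion₂.1 (ht (Set.mem_univ x))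
  exact (hN i x hxi).trans (Finset.le_sup hi)

/-- EGA IV 14.3.2 (converse part): if components of base changes dominate, `f` is universally open. -/
theorem universallyOpen_of_components_dominate {X Y : Scheme.{u}} (f : X ⟶ Y) [LocallyOfFinitePresentation f]
    (h : ∀ (Y' : Scheme.{u}) (g : Y' ⟶ Y) [IrreducibleSpace Y'] [LocallyOfFiniteType g] [QuasiCompact g],
      ∀ Z ∈ irreducibleComponents (↥(pullback f g) : Type u), Dense ((pullback.snd f g).base '' Z)) :
    UniversallyOpen f := by
  refine H8Lim.universallyOpen_of_isOpenMap_affineSpace f fun n _ => ?_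
  let W := AffineSpace (ULift.{u} (Fin n)) Y
  let t := W ↘ Y
  let f' := pullback.snd f t
  refine isOpenMap_iff_nhds_le.2 fun x N hN => ?_
  have hopen : EGA43.IsOpenAt f' x := H8ProCons.isOpenAt_of_generizations f' fun y' hy' => by
    let I := Scheme.IdealSheafData.vanishingIdeal (⟨closure {y'}, isClosed_closure⟩ : Closeds W)
    let c := I.subschemeι
    have hrange : Set.range c = closure {y'} := by
      rw [Scheme.IdealSheafData.range_subschemeι]
      exact Scheme.IdealSheafData.coe_support_vanishingIdeal _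
    haveI : IrreducibleSpace I.subscheme := by
      have hirr : IsIrreducible (closure ({y'} : Set W)) := isIrreducible_singleton.closure
      let e : I.subscheme ≃ₜ (closure ({y'} : Set W) : Set W) :=
        c.isEmbedding.toHomeomorph.trans (Homeomorph.setCongr hrange)
      haveI : IrreducibleSpace (closure ({y'} : Set W) : Set W) := Subtype.irreducibleSpace hirr
      exact e.symm.surjective.irreducibleSpace e.symm.continuous
    haveI : QuasiCompact t := inferInstance
    obtain ⟨v, hv⟩ : y' ∈ Set.range c := hrange ▸ subset_closure rfl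
    obtain ⟨b, hb⟩ : f' x ∈ Set.range c := hrange.symm ▸ specializes_iff_mem_closure.1 hy'
    obtain ⟨p, hp1, hp2⟩ := Scheme.Pullback.exists_preimage_pullback (f := f') (g := c) x b hb.symm
    let e := pullbackLeftPullbackSndIso f t c
    obtain ⟨ζ, hζ, Z, hZ, hgen⟩ := exists_isMaximalPt_specializes (e.hom p)
    have hD := h I.subscheme (c ≫ t) Z hZ
    have hgv : IsGenericPoint v (⊤ : Set I.subscheme) := by
      refine isGenericPoint_def.2 (Set.eq_univ_of_forall fun w => ?_)
      refine specializes_iff_mem_closure.1 (c.isEmbedding.isInducing.specializes_iff.1 ?_)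
      rw [hv]
      exact specializes_iff_mem_closure.2 (hrange.le ⟨w, rfl⟩)
    have hζv : pullback.snd f (c ≫ t) ζ = v :=
      IsGenericPoint.eq ((hgen.image (pullback.snd f (c ≫ t)).continuous).def.trans hD.closure_eq) hgv
    refine ⟨pullback.fst f' c (e.inv ζ), ?_, ?_⟩
    · refine ((hζ.map e.inv.continuous).map (pullback.fst f' c).continuous).trans (specializes_of_eq ?_)
      show pullback.fst f' c (e.inv (e.hom p)) = x
      rw [← Scheme.Hom.comp_apply e.hom, e.hom_inv_id]
      simpa using hp1
    · rw [← Scheme.Hom.comp_apply, pullback.condition, Scheme.Hom.comp_apply]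
      refine Eq.trans (congrArg c ?_) hv
      rw [← Scheme.Hom.comp_apply, ← hζv]
      exact congrArg (fun k : pullback f (c ≫ t) ⟶ I.subscheme => k ζ) (pullbackLeftPullbackSndIso_inv_snd_snd f t c)
  exact Filter.mem_of_superset (hopen _ hN) (Set.image_preimage_subset _ _)

end Groth.Agent.EGA43.Chevalley
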