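import Groth.Agent.EGA43.Chevalley.SetDim

/-!
# Equivalent forms of Chevalley's criterion (EGA IV 14.4.1)
-/

set_option autoImplicit false
set_option backward.isDefEq.respectTransparency false
set_option linter.style.haveILetI false

universe u

open CategoryTheory CategoryTheory.Limits AlgebraicGeometry TopologicalSpace

namespace Groth.Agent.EGA43.Chevalley

open Groth.Agent FlatMorWeight

variable {X Y : Scheme.{u}} (f : X ⟶ Y) [LocallyOfFiniteType f]

omit [LocallyOfFiniteType f] in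
theorem isOpenAt_of_isUnivOpenAt {x : X} (h : EGA43.IsUnivOpenAt f x) : EGA43.IsOpenAt f.base x :=
  EGA43.isOpenAt_of_isPullback h (IsPullback.of_id_fst (f := f)) (x' := x) (by simp)

theorem exists_isGenericPoint {W : Set X} (hW : W ∈ irreducibleComponents (X : Type u)) :
    ∃ η, IsGenericPoint η W ∧ IsMaximalPt η := by
  obtain ⟨η, hη, hmax⟩ := DimLib.exists_genericPoint_of_mem_components hW
  exact ⟨η, hη, fun z hz => (hmax z hz).symm⟩

variable [IsLocallyNoetherian Y] (x : X) (hmax : ∀ w, w ⤳ x → f w = f x → w = x)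

include hmax in
/-- From a big generisation over a maximal point to a component with the right dimensions. -/
theorem exists_component {η : Y} (hη : IsMaximalPt η) {z : X} (hz : z ⤳ x) (hzη : f z = η)
    (hd : DimLib.trdegHom (f.residueFieldMap x).hom ≤ DimLib.trdegHom (f.residueFieldMap z).hom) :
    ∃ Z ∈ irreducibleComponents (X : Type u), ∃ hx : x ∈ Z, closure (f.base '' Z) = closure {η} ∧
      FlatMor.localDim ↥(Z ∩ f.base ⁻¹' {f.base x}) ⟨x, ⟨hx, rfl⟩⟩ =
        topologicalKrullDim ↥(Z ∩ f.base ⁻¹' {η}) := by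
  obtain ⟨ξ, hξ, W, hW, hgen⟩ := exists_isMaximalPt_specializes z
  have hξη : f ξ = η := hη _ ((hξ.map f.continuous).trans (specializes_of_eq hzη))
  have hWeq : closure {ξ} = W := hgen.def
  refine ⟨W, hW, hgen.specializes_iff_mem.1 (hξ.trans hz), ?_, ?_⟩
  · rw [← hξη]
    exact (hgen.image f.continuous).def.symm
  · rw [localDim_inter_fibre_eq f (isClosed_of_mem_irreducibleComponents W hW).isLocallyClosed _ _
      (fun w h1 h2 => hmax w h1 h2)]
    subst hWeq
    rw [← hξη, topologicalKrullDim_closure_inter_fibre f ξ]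
    have h1 : DimLib.trdegHom (f.residueFieldMap z).hom ≤ DimLib.trdegHom (f.residueFieldMap ξ).hom :=
      trdegHom_le_of_specializes f hξ (hξη.trans hzη.symm)
    have h2 : DimLib.trdegHom (f.residueFieldMap ξ).hom ≤ DimLib.trdegHom (f.residueFieldMap x).hom :=
      trdegHom_le_fibreDimAt f (hξ.trans hz) _ (fibreDimAt_eq_of_maximal f x hmax).le
    exact congrArg (fun n : ℕ => (n : WithBot ℕ∞)) (le_antisymm (hd.trans h1) h2)

include hmax in
theorem exists_generization_of_component {η : Y} {Z : Set X} (hZ : Z ∈ irreducibleComponents (X : Type u))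
    (hx : x ∈ Z) (hcl : closure (f.base '' Z) = closure {η})
    (hdim : FlatMor.localDim ↥(Z ∩ f.base ⁻¹' {f.base x}) ⟨x, ⟨hx, rfl⟩⟩ =
      topologicalKrullDim ↥(Z ∩ f.base ⁻¹' {η})) :
    ∃ z, z ⤳ x ∧ f z = η ∧
      DimLib.trdegHom (f.residueFieldMap x).hom ≤ DimLib.trdegHom (f.residueFieldMap z).hom := by
  obtain ⟨ξ, hgen, -⟩ := exists_isGenericPoint hZ
  have hξη : f ξ = η := by
    refine IsGenericPoint.eq ((hgen.image f.continuous).def.trans hcl : IsGenericPoint _ _) ?_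
    exact isGenericPoint_closure
  refine ⟨ξ, hgen.specializes hx, hξη, ?_⟩
  rw [localDim_inter_fibre_eq f (isClosed_of_mem_irreducibleComponents Z hZ).isLocallyClosed _ _
    (fun w h1 h2 => hmax w h1 h2)] at hdim
  obtain rfl : closure {ξ} = Z := hgen.def
  rw [← hξη, topologicalKrullDim_closure_inter_fibre f ξ] at hdim
  exact (by exact_mod_cast hdim.le)

include hmax in
/-- Big generic fibres on all neighbourhoods give universal openness. -/
theorem isUnivOpenAt_of_forall_nhd (hy : CAlg2.IsGeomUnibranch (Y.presheaf.stalk (f.base x))) {η₀ : Y}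
    (hm₀ : IsMaximalPt η₀)
    (h : ∀ U : X.Opens, x ∈ U → (DimLib.trdegHom (f.residueFieldMap x).hom : WithBot ℕ∞) ≤
      topologicalKrullDim ↥((U : Set X) ∩ f.base ⁻¹' {η₀})) : EGA43.IsUnivOpenAt f x := by
  haveI : IsLocallyNoetherian X := LocallyOfFiniteType.isLocallyNoetherian f
  obtain ⟨z, hz, hzη, hd⟩ := exists_generization_of_forall_nhd f x
    (DimLib.trdegHom (f.residueFieldMap x).hom) (η := η₀) fun U hxU => by
    have h1 := h U hxU
    rw [topologicalKrullDim_inter_fibre f U.isOpen.isLocallyClosed] at h1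
    by_contra hno
    push Not at hno
    rcases isEmpty_or_nonempty ↥((U : Set X) ∩ f.base ⁻¹' {η₀}) with he | hne
    · rw [iSup_of_empty] at h1
      exact absurd h1 (by simp)
    · rcases hd : DimLib.trdegHom (f.residueFieldMap x).hom with _ | n
      · obtain ⟨a, ha1, ha2⟩ := hne
        have := hno a ha1 ha2
        omega
      · rw [hd] at h1
        have h2 : ((n + 1 : ℕ) : WithBot ℕ∞) ≤ (n : WithBot ℕ∞) := h1.trans (iSup_le fun a => by
          have := hno a.1 a.2.1 a.2.2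
          rw [hd] at this
          exact_mod_cast Nat.lt_succ_iff.1 this)
        have h3 : n + 1 ≤ n := by exact_mod_cast h2
        omega
  refine isUnivOpenAt_of_trdegHom f hz (hzη.symm ▸ hm₀) hy fun x' _ h2 h3 => ?_
  rw [hmax x' h2 h3]
  exact hd

include hmax in
/-- EGA IV 14.4.1. -/
theorem tfae (hy : CAlg2.IsGeomUnibranch (Y.presheaf.stalk (f.base x))) :
    List.TFAE [EGA43.IsUnivOpenAt f x,
      (∀ Y₀ ∈ irreducibleComponents (Y : Type u), f.base x ∈ Y₀ →
        ∃ Z ∈ irreducibleComponents (X : Type u), ∃ hx : x ∈ Z, closure (f.base '' Z) = Y₀ ∧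
          ∀ η : Y, closure ({η} : Set Y) = Y₀ →
            FlatMor.localDim ↥(Z ∩ f.base ⁻¹' {f.base x}) ⟨x, ⟨hx, rfl⟩⟩ =
              topologicalKrullDim ↥(Z ∩ f.base ⁻¹' {η})),
      (∀ U : X.Opens, x ∈ U → ∀ y' : Y, y' ⤳ f.base x →
        FlatMor.fibreDimAt f x ≤ topologicalKrullDim ↥((U : Set X) ∩ f.base ⁻¹' {y'})),
      EGA43.IsOpenAt f.base x] := by
  haveI : IsLocallyNoetherian X := LocallyOfFiniteType.isLocallyNoetherian f
  obtain ⟨η₀, hη₀, W₀, hW₀, hgen₀⟩ := exists_isMaximalPt_specializes (f x)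
  have hm₀ := isMaximalPt_of_isGenericPoint hW₀ hgen₀
  have key : ∀ z, z ⤳ x → f z = η₀ →
      DimLib.trdegHom (f.residueFieldMap x).hom ≤ DimLib.trdegHom (f.residueFieldMap z).hom →
      EGA43.IsUnivOpenAt f x := fun z hz hzη hd => by
    refine isUnivOpenAt_of_trdegHom f hz (hzη.symm ▸ hm₀) hy fun x' _ h2 h3 => ?_
    rw [hmax x' h2 h3]
    exact hd
  have lift (h : EGA43.IsOpenAt f.base x) : ∀ y', y' ⤳ f x → ∃ x', x' ⤳ x ∧ f x' = y' :=
    fun y' hy' => H8ProCons.exists_generization_of_isOpenAt f h hy'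
  tfae_have 1 → 4 := isOpenAt_of_isUnivOpenAt f
  tfae_have 4 → 2 := fun h Y₀ hY₀ hxY₀ => by
    obtain ⟨η, hηgen, hηmax⟩ := exists_isGenericPoint hY₀
    have hηx : η ⤳ f x := hηgen.specializes hxY₀
    obtain ⟨z, hz, hzη, hd⟩ := exists_generization_trdegHom_le f x hmax (lift h) hηx
    obtain ⟨Z, hZ, hxZ, hcl, hdim⟩ := exists_component f x hmax hηmax hz hzη hd
    refine ⟨Z, hZ, hxZ, hcl.trans hηgen.def, fun η' hη' => ?_⟩
    obtain rfl : η' = η := IsGenericPoint.eq hη' hηgen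
    exact hdim
  tfae_have 4 → 3 := fun h U hxU y' hy' => by
    obtain ⟨z, hz, rfl, hd⟩ := exists_generization_trdegHom_le f x hmax (lift h) hy'
    rw [fibreDimAt_eq_of_maximal f x hmax]
    exact le_trans (by exact_mod_cast hd)
      (le_topologicalKrullDim_inter_fibre f U.isOpen.isLocallyClosed (hz.mem_open U.isOpen hxU))
  tfae_have 2 → 1 := fun h => by
    obtain ⟨Z, hZ, hxZ, hcl, hdim⟩ := h W₀ hW₀ (hgen₀.specializes_iff_mem.1 hη₀)
    obtain ⟨z, hz, hzη, hd⟩ := exists_generization_of_component f x hmax hZ hxZ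
      (hcl.trans hgen₀.def.symm) (hdim η₀ hgen₀.def)
    exact key z hz hzη hd
  tfae_have 3 → 1 := fun h => isUnivOpenAt_of_forall_nhd f x hmax hy hm₀ fun U hxU => by
    rw [← fibreDimAt_eq_of_maximal f x hmax]
    exact h U hxU η₀ hη₀
  tfae_finish

omit hmax

omit [IsLocallyNoetherian Y] in
/-- Transcendence degrees are bounded near each point. -/
theorem exists_bound (f : X ⟶ Y) [LocallyOfFiniteType f] (x : X) :
    ∃ N, ∀ w, w ⤳ x → DimLib.trdegHom (f.residueFieldMap w).hom ≤ N := by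
  obtain ⟨V, hV, hxV, -⟩ := exists_isAffineOpen_mem_and_subset (x := f x) (U := ⊤) (Set.mem_univ _)
  obtain ⟨U, hU, hxU, e'⟩ := exists_isAffineOpen_mem_and_subset (x := x) (U := f ⁻¹ᵁ V) hxV
  have e : U ≤ f ⁻¹ᵁ V := e'
  algebraize [(f.appLE V U e).hom]
  haveI : Algebra.FiniteType Γ(Y, V) Γ(X, U) := f.finiteType_appLE hV hU e
  obtain ⟨N, ψ, hψ⟩ := Algebra.FiniteType.iff_quotient_mvPolynomial''.1 ‹Algebra.FiniteType Γ(Y, V) Γ(X, U)›
  refine ⟨N, fun w hw => ?_⟩
  rw [EGA43.FibDepth.trdegHom_residueFieldMap f hV hU e (hw.mem_open U.isOpen hxU),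
    ← EGA43.FibDepth.trd_comap_of_surjectiveOnStalks ψ (RingHom.surjectiveOnStalks_of_surjective hψ)]
  exact EGA43.FibDepth.trd_mvPolynomial_le _

omit [IsLocallyNoetherian Y] in
/-- A point of the fibre maximal in it with maximal dimension. -/
theorem exists_maximal_fibreDimAt (f : X ⟶ Y) [LocallyOfFiniteType f] (x : X) :
    ∃ z, z ⤳ x ∧ f z = f x ∧ (∀ w, w ⤳ z → f w = f z → w = z) ∧
      FlatMor.fibreDimAt f x = (DimLib.trdegHom (f.residueFieldMap z).hom : WithBot ℕ∞) := by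
  obtain ⟨N, hN⟩ := exists_bound f x
  let S : Set ℕ := {n | ∃ w, w ⤳ x ∧ f w = f x ∧ DimLib.trdegHom (f.residueFieldMap w).hom = n}
  have hne : S.Nonempty := ⟨_, x, specializes_rfl, rfl, rfl⟩
  have hbdd : BddAbove S := ⟨N, fun n ⟨w, hw, _, hn⟩ => hn ▸ hN w hw⟩
  obtain ⟨w, hw, hwf, hwn⟩ := Nat.sSup_mem hne hbdd
  obtain ⟨z, hz, hzf, hzmax⟩ := exists_maximal_in_fibre f w
  refine ⟨z, hz.trans hw, hzf.trans hwf, fun a ha he => hzmax a ha (he.trans hzf), ?_⟩
  have h1 : DimLib.trdegHom (f.residueFieldMap z).hom = sSup S :=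
    le_antisymm (le_csSup hbdd ⟨z, hz.trans hw, hzf.trans hwf, rfl⟩)
      (hwn ▸ trdegHom_le_of_specializes f hz hzf)
  refine le_antisymm ((FlatMorDim.fibreDimAt_le_iff f x _).2 fun a ha1 ha2 => ?_) ?_
  · rw [h1]; exact le_csSup hbdd ⟨a, ha2, ha1, rfl⟩
  · refine le_iInf fun ⟨O, hO⟩ => ?_
    have h2 := le_fibreDimAt f z
    obtain ⟨b, hb⟩ : z ∈ Set.range (f.fiberι (f x)) := by rw [f.range_fiberι]; exact hzf.trans hwf
    have hbx : b ⤳ f.asFiber x := by
      rw [← (f.fiberι (f x)).isEmbedding.isInducing.specializes_iff, f.fiberι_asFiber, hb]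
      exact hz.trans hw
    haveI : LocallyOfFiniteType (f.fiberToSpecResidueField (f x)) :=
      inferInstanceAs (LocallyOfFiniteType (Limits.pullback.snd f (Y.fromSpecResidueField (f x))))
    let O' : (f.fiber (f x)).Opens := O
    have h := DimLib.ptDim_le_topologicalKrullDim (O'.ι ≫ f.fiberToSpecResidueField (f x))
      ⟨b, hbx.mem_open O.isOpen hO⟩
    rw [DimLib.ptDim_comp_preimmersion, show O'.ι ⟨b, hbx.mem_open O.isOpen hO⟩ = b from rfl,
      EGA43.FibDepth.ptDim_fiber f, hb] at h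
    exact h

/-- EGA IV 14.4.1, along a whole fibre. -/
theorem tfae_fibre (f : X ⟶ Y) [LocallyOfFiniteType f] (y : Y)
    (hy : CAlg2.IsGeomUnibranch (Y.presheaf.stalk y)) :
    List.TFAE [∀ x : X, f.base x = y → EGA43.IsUnivOpenAt f x,
      ∀ x : X, f.base x = y → ∀ Y₀ ∈ irreducibleComponents (Y : Type u), y ∈ Y₀ →
        ∃ Z ∈ irreducibleComponents (X : Type u), ∃ hx : x ∈ Z, closure (f.base '' Z) = Y₀ ∧
          ∀ η : Y, closure ({η} : Set Y) = Y₀ →
            FlatMor.localDim ↥(Z ∩ f.base ⁻¹' {f.base x}) ⟨x, ⟨hx, rfl⟩⟩ = topologicalKrullDim ↥(Z ∩ f.base ⁻¹' {η}),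
      ∀ U : X.Opens, ∀ Y₀ ∈ irreducibleComponents (Y : Type u), y ∈ Y₀ → ∀ η : Y, closure ({η} : Set Y) = Y₀ →
        topologicalKrullDim ↥((U : Set X) ∩ f.base ⁻¹' {y}) ≤ topologicalKrullDim ↥((U : Set X) ∩ f.base ⁻¹' {η}),
      ∀ x : X, f.base x = y → EGA43.IsOpenAt f.base x] := by
  have spec : (∀ x : X, f.base x = y → (∀ w, w ⤳ x → f w = f x → w = x) → EGA43.IsUnivOpenAt f x) →
      ∀ x : X, f.base x = y → EGA43.IsUnivOpenAt f x := fun h x hx => by
    obtain ⟨z, hz, hzf, hzmax⟩ := exists_maximal_in_fibre f x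
    exact isUnivOpenAt_of_specializes f hz hzf
      (h z (hzf.trans hx) fun w hw he => hzmax w hw (he.trans hzf))
  tfae_have 1 → 4 := fun h x hx => isOpenAt_of_isUnivOpenAt f (h x hx)
  tfae_have 4 → 2 := fun h x hx Y₀ hY₀ hyY₀ => by
    subst hx
    obtain ⟨z, hz, hzf, hzmax, hzd⟩ := exists_maximal_fibreDimAt f x
    have hY : f z ∈ Y₀ := hzf ▸ hyY₀
    have hyz : CAlg2.IsGeomUnibranch (Y.presheaf.stalk (f.base z)) := by
      have h' : f.base z = f.base x := hzf
      rw [h']; exact hy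
    have h24 := ((tfae f z hzmax hyz).out 3 1).1 (h z hzf)
    obtain ⟨Z, hZ, hzZ, hcl, hdim⟩ := h24 Y₀ hY₀ hY
    refine ⟨Z, hZ, hz.mem_closed (isClosed_of_mem_irreducibleComponents Z hZ) hzZ, hcl, fun η hη => ?_⟩
    have hZl := (isClosed_of_mem_irreducibleComponents Z hZ).isLocallyClosed
    rw [← hdim η hη, localDim_inter_fibre_eq f hZl _ _ (fun w h1 h2 => hzmax w h1 h2)]
    refine le_antisymm ((localDim_inter_fibre_le f _ _).trans_eq hzd) ?_
    refine le_iInf fun ⟨O, hO⟩ => ?_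
    obtain ⟨O', hO', hOO'⟩ := isOpen_induced_iff.1 O.isOpen
    refine le_trans (le_localDim_inter_fibre f hZl (f x) ⟨z, hzZ, hzf⟩) ?_
    exact iInf_le (fun U : {U : Opens ↥(Z ∩ f.base ⁻¹' {f x}) // (⟨z, hzZ, hzf⟩ : ↥(Z ∩ f.base ⁻¹' {f x})) ∈ U} =>
      topologicalKrullDim (U.1 : Set ↥(Z ∩ f.base ⁻¹' {f x}))) ⟨O, hOO'.le (hz.mem_open hO' (hOO'.ge hO))⟩
  tfae_have 4 → 3 := fun h U Y₀ hY₀ hyY₀ η hη => by
    rw [topologicalKrullDim_inter_fibre f U.isOpen.isLocallyClosed y]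
    refine iSup_le fun ⟨a, haU, hay⟩ => ?_
    obtain ⟨z, hz, hzf, hzmax⟩ := exists_maximal_in_fibre f a
    have hzy : f z = y := hzf.trans hay
    have hηy : η ⤳ f z := by rw [hzy]; exact specializes_iff_mem_closure.2 (hη.symm ▸ hyY₀)
    obtain ⟨b, hb, hbη, hd⟩ := exists_generization_trdegHom_le f z
      (fun w hw he => hzmax w hw (he.trans hzf))
      (fun y' hy' => H8ProCons.exists_generization_of_isOpenAt f (h z hzy) hy') hηy
    subst hbη
    refine le_trans ?_ (le_topologicalKrullDim_inter_fibre f U.isOpen.isLocallyClosed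
      ((hb.trans hz).mem_open U.isOpen haU))
    exact_mod_cast (trdegHom_le_of_specializes f hz hzf).trans hd
  tfae_have 2 → 1 := fun h => spec fun x hx hmax => by
    subst hx
    exact ((tfae f x hmax hy).out 1 0).1 fun Y₀ hY₀ hxY₀ => h x rfl Y₀ hY₀ hxY₀
  tfae_have 3 → 1 := fun h => spec fun x hx hmax => by
    subst hx
    obtain ⟨η₀, hη₀, W₀, hW₀, hgen₀⟩ := exists_isMaximalPt_specializes (f x)
    refine isUnivOpenAt_of_forall_nhd f x hmax hy (isMaximalPt_of_isGenericPoint hW₀ hgen₀) fun U hxU => ?_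
    exact (le_topologicalKrullDim_inter_fibre f U.isOpen.isLocallyClosed hxU).trans
      (h U W₀ hW₀ (hgen₀.specializes_iff_mem.1 hη₀) η₀ hgen₀.def)
  tfae_finish

end Groth.Agent.EGA43.Chevalley
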