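import Groth.Agent.EGA43.FibDepth.FibreDim
import Mathlib.RingTheory.MvPolynomial.Tower
import Mathlib.RingTheory.RingHom.QuasiFinite

/-!
# Quasi-finite charts over affine spaces (EGA IV 13.3.1)
-/

set_option autoImplicit false
set_option backward.isDefEq.respectTransparency false
set_option linter.style.haveILetI false

universe u

open TensorProduct Function MvPolynomial

namespace Groth.Agent.EGA43.Chevalley

open Groth.Agent FibDepth

attribute [local instance] Algebra.TensorProduct.rightAlgebra

/-- A prime of `A[T₁,…,T_s]` of maximal transcendence degree is minimal in its fibre. -/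
theorem eq_of_trd_eq {A : Type u} [CommRing A] {s : ℕ} {Q' Q : PrimeSpectrum (MvPolynomial (Fin s) A)}
    (hle : Q'.asIdeal ≤ Q.asIdeal)
    (hc : Q'.asIdeal.comap (algebraMap A (MvPolynomial (Fin s) A)) =
      Q.asIdeal.comap (algebraMap A (MvPolynomial (Fin s) A)))
    (hQ : trd A Q = s) : Q' = Q := by
  let p := Q.asIdeal.comap (algebraMap A (MvPolynomial (Fin s) A))
  let P := MvPolynomial (Fin s) A
  let C := p.Fiber P
  let e := (MvPolynomial.algebraTensorAlgEquiv (σ := Fin s) A p.ResidueField).toRingEquiv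
  haveI : IsDomain C := e.injective.isDomain e.toRingHom
  haveI : Algebra.FiniteType p.ResidueField C := finiteType_fibre (A := A) (R := P) p C
  have hdim : ringKrullDim C = (s : WithBot ℕ∞) := by
    rw [ringKrullDim_eq_of_ringEquiv e]
    simp [ringKrullDim_eq_zero_of_field]
  obtain ⟨q', hq'⟩ := exists_prime_over (A := A) (p := p) C Q' hc.symm
  obtain ⟨q, hq⟩ := exists_prime_over (A := A) (p := p) C Q rfl
  have h := ringKrullDim_quotient_eq_trd (R := P) p q
  rw [hq, hQ] at h
  have hq0 : q.asIdeal = ⊥ := by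
    haveI : IsNoetherianRing C := Algebra.FiniteType.isNoetherianRing p.ResidueField C
    have hsum := DimLib.height_add_ringKrullDim_quotient (k := p.ResidueField) q.asIdeal
    rw [h, hdim] at hsum
    have hh : q.asIdeal.height = 0 := by
      generalize q.asIdeal.height = a at hsum
      induction a using ENat.recTopCoe with
      | top =>
        rw [← WithBot.coe_natCast s, ← WithBot.coe_add, WithBot.coe_inj, top_add] at hsum
        exact absurd hsum.symm (ENat.coe_ne_top s)
      | coe a => norm_cast at hsum ⊢; omega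
    have h1 : q.asIdeal ∈ minimalPrimes C := Ideal.height_eq_zero_iff.1 hh
    rwa [IsDomain.minimalPrimes_eq_singleton_bot, Set.mem_singleton_iff] at h1
  have hle' : q'.asIdeal ≤ q.asIdeal := le_of_comap_le (R := P) p (by rw [hq', hq]; exact hle)
  have : q' = q := PrimeSpectrum.ext (le_antisymm hle' (by rw [hq0]; exact bot_le))
  exact hq'.symm.trans ((congrArg _ this).trans hq)

/-- Near `q`, on the closed set `V(P)` whose fibre through `q` has no bigger dimension than the
generic fibre, there is a quasi-finite map to affine space over a minimal prime. -/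
theorem exists_chart {A R : Type u} [CommRing A] [CommRing R] [Algebra A R] [Algebra.FiniteType A R]
    (P q : PrimeSpectrum R) (hPq : P.asIdeal ≤ q.asIdeal)
    (hp₀ : P.asIdeal.comap (algebraMap A R) ∈ minimalPrimes A)
    (hd : ∀ q' : PrimeSpectrum R, P.asIdeal ≤ q'.asIdeal → q'.asIdeal ≤ q.asIdeal →
      q'.asIdeal.comap (algebraMap A R) = q.asIdeal.comap (algebraMap A R) → trd A q' ≤ trd A P) :
    ∃ (e : ℕ) (B : Type u) (_ : CommRing B) (_ : IsDomain B) (φ : R →+* B)
      (ψ : MvPolynomial (ULift.{u} (Fin e)) A →+* B),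
      ψ.comp MvPolynomial.C = φ.comp (algebraMap A R) ∧ ψ.FiniteType ∧ ψ.QuasiFinite ∧
      RingHom.ker ψ ∈ minimalPrimes (MvPolynomial (ULift.{u} (Fin e)) A) ∧
      q ∈ Set.range (PrimeSpectrum.comap φ) := by
  let R₁ := R ⧸ P.asIdeal
  let π : R →ₐ[A] R₁ := Ideal.Quotient.mkₐ A P.asIdeal
  have hπ : π.toRingHom.SurjectiveOnStalks :=
    RingHom.surjectiveOnStalks_of_surjective Ideal.Quotient.mk_surjective
  let e := trd A P
  obtain ⟨q₁, hq₁⟩ : q ∈ Set.range (PrimeSpectrum.comap (Ideal.Quotient.mk P.asIdeal)) := by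
    rw [range_comap_of_surjective _ _ Ideal.Quotient.mk_surjective, Ideal.mk_ker]; exact hPq
  have hO := FibDepth.isOpen_trd_le (A := A) (R := R₁) e
  have hq₁O : q₁ ∈ {q : PrimeSpectrum R₁ | ∀ q' : PrimeSpectrum R₁, q'.asIdeal ≤ q.asIdeal →
      q'.asIdeal.comap (algebraMap A R₁) = q.asIdeal.comap (algebraMap A R₁) → trd A q' ≤ e} := by
    intro q' hle hc
    rw [← trd_comap_of_surjectiveOnStalks π hπ q']
    refine hd _ ?_ ?_ ?_
    · intro x hx
      show Ideal.Quotient.mk P.asIdeal x ∈ q'.asIdeal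
      rw [Ideal.Quotient.eq_zero_iff_mem.2 hx]
      exact zero_mem _
    · rw [← hq₁]; exact Ideal.comap_mono hle
    · rw [← hq₁]; exact hc
  obtain ⟨_, ⟨_, ⟨r, rfl⟩, rfl⟩, hr, hrO⟩ :=
    PrimeSpectrum.isBasis_basic_opens.exists_subset_of_mem_open hq₁O hO
  let R₂ := Localization.Away r
  haveI : Algebra.FiniteType R₁ R₂ := IsLocalization.finiteType_of_monoid_fg (Submonoid.powers r) R₂
  haveI : Algebra.FiniteType A R₂ := Algebra.FiniteType.trans (S := R₁) inferInstance ‹_›
  have hr0 : r ≠ 0 := fun h => hr (by rw [h]; exact zero_mem _)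
  haveI : IsDomain R₂ := IsLocalization.isDomain_localization (powers_le_nonZeroDivisors_of_noZeroDivisors hr0)
  let l := IsScalarTower.toAlgHom A R₁ R₂
  have hl : l.toRingHom.SurjectiveOnStalks :=
    RingHom.surjectiveOnStalks_of_isLocalization (M := Submonoid.powers r) _
  have htrd : ∀ q' : PrimeSpectrum R₂, trd A q' ≤ e := fun q' => by
    rw [← trd_comap_of_surjectiveOnStalks l hl q']
    have hmem : r ∉ (PrimeSpectrum.comap l.toRingHom q').asIdeal :=
      (PrimeSpectrum.localization_away_comap_range R₂ r).le ⟨q', rfl⟩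
    exact hrO hmem _ le_rfl rfl
  obtain ⟨q₂, hq₂⟩ := (PrimeSpectrum.localization_away_comap_range R₂ r).ge hr
  obtain ⟨s, ψ₀, hs, hqf⟩ := exists_quasiFiniteAt (A := A) q₂ fun q' _ => htrd q'
  let T := MvPolynomial (Fin s) A
  let _ := ψ₀.toRingHom.toAlgebra
  haveI : IsScalarTower A T R₂ := .of_algebraMap_eq fun a => (ψ₀.commutes a).symm
  haveI : Algebra.FiniteType T R₂ := Algebra.FiniteType.of_restrictScalars_finiteType A _ R₂
  haveI : Algebra.QuasiFiniteAt T q₂.asIdeal := hqf
  obtain ⟨S', hS', c, hc, hbij⟩ :=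
    Algebra.QuasiFiniteAt.exists_fg_and_exists_notMem_and_awayMap_bijective (R := T) q₂.asIdeal
  haveI : Module.Finite T S' := ⟨(Submodule.fg_top _).mpr hS'⟩
  haveI : Algebra.QuasiFinite T (Localization.Away c) := .trans _ S' _
  haveI : Algebra.QuasiFinite T (Localization.Away c.1) :=
    .of_surjective_algHom (R := T) (S := Localization.Away c) (Localization.awayMapₐ S'.val c) hbij.2
  let B := Localization.Away c.1
  have hc0 : c.1 ≠ 0 := fun h => hc (by rw [h]; exact zero_mem _)
  haveI : IsDomain B :=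
    IsLocalization.isDomain_localization (powers_le_nonZeroDivisors_of_noZeroDivisors hc0)
  haveI : Algebra.FiniteType R₂ B := IsLocalization.finiteType_of_monoid_fg (Submonoid.powers c.1) B
  haveI : Algebra.FiniteType T B := Algebra.FiniteType.trans (S := R₂) inferInstance ‹_›
  let m := IsScalarTower.toAlgHom A R₂ B
  have hm : m.toRingHom.SurjectiveOnStalks :=
    RingHom.surjectiveOnStalks_of_isLocalization (M := Submonoid.powers c.1) _
  let φ : R →+* B := ((algebraMap R₂ B).comp (algebraMap R₁ R₂)).comp (Ideal.Quotient.mk P.asIdeal)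
  -- the generic point
  let η : PrimeSpectrum B := ⟨⊥, Ideal.isPrime_bot⟩
  have hηP : PrimeSpectrum.comap π.toRingHom (PrimeSpectrum.comap l.toRingHom
      (PrimeSpectrum.comap m.toRingHom η)) = P := by
    refine PrimeSpectrum.ext ?_
    show ((Ideal.comap (algebraMap R₂ B) ⊥).comap (algebraMap R₁ R₂)).comap (Ideal.Quotient.mk _) = _
    rw [← RingHom.ker_eq_comap_bot, (RingHom.injective_iff_ker_eq_bot _).1
        (IsLocalization.injective B (powers_le_nonZeroDivisors_of_noZeroDivisors hc0)),
      ← RingHom.ker_eq_comap_bot, (RingHom.injective_iff_ker_eq_bot _).1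
        (IsLocalization.injective R₂ (powers_le_nonZeroDivisors_of_noZeroDivisors hr0)),
      ← RingHom.ker_eq_comap_bot, Ideal.mk_ker]
  have hη : trd A η = e := by
    rw [← trd_comap_of_surjectiveOnStalks m hm η, ← trd_comap_of_surjectiveOnStalks l hl,
      ← trd_comap_of_surjectiveOnStalks π hπ, hηP]
  let Q := PrimeSpectrum.comap (algebraMap T B) η
  have hQ : trd A Q = e := by rw [← hη]; exact (trd_eq_of_quasiFinite (B := T) η).symm
  have hse : e = s := le_antisymm (hQ ▸ trd_mvPolynomial_le Q) hs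
  have hQc : Q.asIdeal.comap (algebraMap A T) = P.asIdeal.comap (algebraMap A R) := by
    rw [← hηP]
    show Ideal.comap (algebraMap A T) (Ideal.comap (algebraMap T B) ⊥) =
      ((((⊥ : Ideal B).comap m.toRingHom).comap l.toRingHom).comap π.toRingHom).comap (algebraMap A R)
    simp only [Ideal.comap_comap, ← IsScalarTower.algebraMap_eq]
    rfl
  have hQmin : Q.asIdeal ∈ minimalPrimes T := by
    refine ⟨⟨Q.isPrime, bot_le⟩, fun J hJ hle => ?_⟩
    let Q' : PrimeSpectrum T := ⟨J, hJ.1⟩
    have h1 : J.comap (algebraMap A T) = Q.asIdeal.comap (algebraMap A T) :=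
      le_antisymm (Ideal.comap_mono hle) (hQc ▸ hp₀.2 ⟨Ideal.comap_isPrime (H := hJ.1) _ J, bot_le⟩
        ((Ideal.comap_mono hle).trans hQc.le))
    exact (congrArg PrimeSpectrum.asIdeal (eq_of_trd_eq (Q' := Q') hle h1 (hQ.trans hse))).ge
  let E : MvPolynomial (ULift.{u} (Fin s)) A ≃+* T :=
    (MvPolynomial.renameEquiv A Equiv.ulift).toRingEquiv
  refine ⟨s, B, inferInstance, inferInstance, φ, (algebraMap T B).comp E.toRingHom, ?_, ?_, ?_, ?_, ?_⟩
  · ext a
    show algebraMap T B (MvPolynomial.rename _ (MvPolynomial.C a)) = _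
    rw [MvPolynomial.rename_C, ← MvPolynomial.algebraMap_eq, ← IsScalarTower.algebraMap_apply,
      IsScalarTower.algebraMap_apply A R₂ B, IsScalarTower.algebraMap_apply A R₁ R₂,
      IsScalarTower.algebraMap_apply A R R₁]
    rfl
  · exact (RingHom.finiteType_algebraMap.2 ‹_›).comp (RingHom.FiniteType.of_surjective _ E.surjective)
  · exact (RingHom.quasiFinite_algebraMap.2 inferInstance).comp
      (RingHom.QuasiFinite.of_finite (RingHom.Finite.of_surjective _ E.surjective))
  · have hk : RingHom.ker ((algebraMap T B).comp E.toRingHom) = Q.asIdeal.comap E.toRingHom := by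
      rw [← RingHom.comap_ker]
      rfl
    rw [hk]
    refine ⟨⟨Ideal.comap_isPrime _ _, bot_le⟩, fun J hJ hle => ?_⟩
    have hle2 : J.comap E.symm.toRingHom ≤ Q.asIdeal := fun t ht => by
      have h := hle (show E.symm.toRingHom t ∈ J from ht)
      rw [Ideal.mem_comap] at h
      rwa [show E.toRingHom (E.symm.toRingHom t) = t from E.apply_symm_apply t] at h
    intro x hx
    have := hQmin.2 ⟨Ideal.comap_isPrime (H := hJ.1) _ J, bot_le⟩ hle2 (show E x ∈ Q.asIdeal from hx)
    rw [Ideal.mem_comap] at this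
    rwa [show E.symm.toRingHom (E x) = x from E.symm_apply_apply x] at this
  · obtain ⟨q₃, hq₃⟩ := (PrimeSpectrum.localization_away_comap_range B c.1).ge hc
    refine ⟨q₃, ?_⟩
    rw [← hq₁, ← hq₂, ← hq₃]
    rfl

end Groth.Agent.EGA43.Chevalley
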