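import Groth.Agent.EGA43.Chevalley.Unibranch
import Groth.Agent.EGA43.UnivOpen.AffineSpace
import Groth.Agent.EGA43.Unibranch.AffineSpace
import Groth.Agent.EGA43.Unibranch.Open
import Groth.Agent.EGA43.OpenAt
import Groth.Agent.H8ProCons.Image

/-!
# Universal openness of morphisms which are quasi-finite over affine spaces (EGA IV 14.4)
-/

set_option autoImplicit false
set_option backward.isDefEq.respectTransparency false
set_option linter.style.haveILetI false

universe u

open CategoryTheory CategoryTheory.Limits AlgebraicGeometry TopologicalSpace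

namespace Groth.Agent.EGA43.Chevalley

open Groth.Agent FlatMorWeight

variable {X Y Z : Scheme.{u}}

theorem isUnivOpenAt_of_comp (g : Z ⟶ X) (f : X ⟶ Y) (z : Z)
    (h : EGA43.IsUnivOpenAt (g ≫ f) z) : EGA43.IsUnivOpenAt f (g z) := by
  intro Y' v x' hx'
  obtain ⟨w, hw1, hw2⟩ := Scheme.Pullback.exists_preimage_pullback (f := g) (g := pullback.fst f v)
    z x' hx'.symm
  let e := pullbackRightPullbackFstIso f v g
  have hfst : pullback.fst (g ≫ f) v (e.hom w) = z := by
    rw [← Scheme.Hom.comp_apply, pullbackRightPullbackFstIso_hom_fst]; exact hw1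
  have h1 := h Y' v (e.hom w) hfst
  let m : pullback (g ≫ f) v ⟶ pullback f v := pullback.map _ _ _ _ g (𝟙 _) (𝟙 _) (by simp) (by simp)
  have hm : m (e.hom w) = x' := by
    rw [← hw2, ← Scheme.Hom.comp_apply]
    refine congrArg (fun k : pullback g (pullback.fst f v) ⟶ pullback f v => k w) ?_
    ext <;> simp [m, e, pullback.condition]
  have hfun : (pullback.snd (g ≫ f) v).base = (pullback.snd f v).base ∘ m.base := funext fun a => by
    rw [Function.comp_apply, ← Scheme.Hom.comp_apply]
    simp [m]
  rw [← hm]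
  exact isOpenAt_of_comp (f := m.base) m.continuous.continuousAt (by rw [← hfun]; exact h1)

/-- A locally quasi-finite morphism sending the generic point of an irreducible scheme to a
maximal point is open at points over unibranch points. -/
theorem isOpenAt_of_quasiFinite [IrreducibleSpace Z] [IsLocallyNoetherian Y] (g : Z ⟶ Y)
    [LocallyOfFiniteType g] [LocallyQuasiFinite g] (hgen : IsMaximalPt (g (genericPoint Z))) (z : Z)
    (hy : CAlg2.IsGeomUnibranch (Y.presheaf.stalk (g z))) : EGA43.IsOpenAt g.base z := by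
  refine H8ProCons.isOpenAt_of_generizations g fun y' hy' => ?_
  obtain ⟨W, hzW, hW⟩ := exists_irreducible_nhd hy.1
  let W' := g ⁻¹ᵁ W
  haveI : Nonempty W' := ⟨⟨z, hzW⟩⟩
  have hW' : IrreducibleSpace W' :=
    W'.ι.isOpenEmbedding.irreducibleSpace
  let g' : W'.toScheme ⟶ W.toScheme := g ∣_ W
  have hg' : ∀ a : W', (g' a).1 = g a.1 := fun a => morphismRestrict_base_coe g W a
  have hη : genericPoint Z ∈ W' := (genericPoint_specializes z).mem_open W'.isOpen hzW
  have hgen' : g' ⟨genericPoint Z, hη⟩ = genericPoint W := by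
    refine Subtype.ext ?_
    rw [hg']
    refine (hgen _ ?_).symm
    have h1 := (genericPoint_specializes (g' ⟨genericPoint Z, hη⟩)).map W.ι.continuous
    rw [← hg' ⟨genericPoint Z, hη⟩]
    exact h1
  haveI : IsDominant g' := ⟨fun w => by
    refine closure_mono (Set.singleton_subset_iff.2 (Set.mem_range.2 ⟨_, hgen'⟩)) ?_
    exact specializes_iff_mem_closure.1 (genericPoint_specializes w)⟩
  haveI : LocallyQuasiFinite g' := IsZariskiLocalAtTarget.restrict (P := @LocallyQuasiFinite) ‹_› W
  haveI : LocallyOfFiniteType g' := IsZariskiLocalAtTarget.restrict (P := @LocallyOfFiniteType) ‹_› W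
  have hy2 : CAlg2.IsUnibranch (W.toScheme.presheaf.stalk (g' ⟨z, hzW⟩)) := by
    have he : (g' ⟨z, hzW⟩ : W) = (⟨g z, hzW⟩ : W) := Subtype.ext (hg' _)
    rw [he]
    exact (Unibranch.isGeomUnibranch_of_ringEquiv
      (W.stalkIso ⟨g z, hzW⟩).symm.commRingCatIsoToRingEquiv hy).1
  have hy'W : y' ∈ W := hy'.mem_open W.isOpen hzW
  obtain ⟨x', hx', hx''⟩ := Unibranch.exists_generization_of_isUnibranch g' (⟨z, hzW⟩ : W') hy2
    (y' := (⟨y', hy'W⟩ : W)) (Topology.IsInducing.subtypeVal.specializes_iff.1 (by rw [hg']; exact hy'))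
  exact ⟨x'.1, hx'.map W'.ι.continuous, by rw [← hg', hx'']⟩

/-- A scheme quasi-finite over an affine space over `Y`, with generic point over a maximal point, is
universally open over `Y` at the points over geometrically unibranch points. -/
theorem isUnivOpenAt_of_quasiFinite [IrreducibleSpace Z] [IsLocallyNoetherian Y] (e : ℕ)
    (g : Z ⟶ 𝔸(ULift.{u} (Fin e); Y)) [LocallyOfFiniteType g] [LocallyQuasiFinite g]
    (hgen : IsMaximalPt (g (genericPoint Z))) (z : Z)
    (hy : CAlg2.IsGeomUnibranch (Y.presheaf.stalk ((g ≫ 𝔸(ULift.{u} (Fin e); Y) ↘ Y) z))) :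
    EGA43.IsUnivOpenAt (g ≫ 𝔸(ULift.{u} (Fin e); Y) ↘ Y) z := by
  let t := 𝔸(ULift.{u} (Fin e); Y) ↘ Y
  let A' := 𝔸(ULift.{u} (Fin e); Y)
  haveI : IsLocallyNoetherian A' := LocallyOfFiniteType.isLocallyNoetherian t
  refine UnivOpen.isUnivOpenAt_of_affineSpace _ z fun n w hw => ?_
  let ι : Type u := ULift.{u} (Fin n)
  let Z' := 𝔸(ι; Z)
  let W := 𝔸(ι; A')
  let g' : Z' ⟶ W := AffineSpace.map ι g
  haveI : IsLocallyNoetherian W := LocallyOfFiniteType.isLocallyNoetherian (W ↘ A')
  haveI : LocallyOfFiniteType g' :=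
    MorphismProperty.of_isPullback (AffineSpace.isPullback_map g).flip inferInstance
  haveI : LocallyQuasiFinite g' :=
    MorphismProperty.of_isPullback (AffineSpace.isPullback_map g).flip inferInstance
  have hsq : IsPullback (Z' ↘ Z) (AffineSpace.map ι (g ≫ t)) (g ≫ t) (AffineSpace ι Y ↘ Y) :=
    (AffineSpace.isPullback_map (g ≫ t)).flip
  let w' : Z' := hsq.isoPullback.inv w
  have hw' : (Z' ↘ Z) w' = z := by
    rw [← hw, ← Scheme.Hom.comp_apply, hsq.isoPullback_inv_fst]
  have hsnd : (pullback.snd (g ≫ t) (AffineSpace ι Y ↘ Y)).base =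
      (AffineSpace.map ι t).base ∘ g'.base ∘ hsq.isoPullback.inv.base := funext fun a => by
    rw [Function.comp_apply, Function.comp_apply, ← Scheme.Hom.comp_apply, ← Scheme.Hom.comp_apply,
      ← AffineSpace.map_comp, IsPullback.isoPullback_inv_snd]
  rw [hsnd]
  refine isOpenAt_comp (isOpenAt_comp ?_ ?_) ?_
  · exact fun U hU => hsq.isoPullback.inv.homeomorph.isOpenMap.image_mem_nhds hU
  · refine isOpenAt_of_quasiFinite g' ?_ w' ?_
    · -- the generic point of `Z'` goes to a maximal point
      intro v hv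
      have hW : (W ↘ A') (g' (genericPoint Z')) = g ((Z' ↘ Z) (genericPoint Z')) := by
        rw [← Scheme.Hom.comp_apply, AffineSpace.map_over, Scheme.Hom.comp_apply]
      obtain ⟨a, ha⟩ := (Z' ↘ Z).surjective (genericPoint Z)
      have hp : (Z' ↘ Z) (genericPoint Z') = genericPoint Z :=
        (((genericPoint_specializes a).map (Z' ↘ Z).continuous).trans (specializes_of_eq ha)).antisymm
          (genericPoint_specializes _) |>.eq
      have hμ : (W ↘ A') v = g (genericPoint Z) :=
        hgen _ ((hv.map (W ↘ A').continuous).trans (specializes_of_eq (hW.trans (congrArg _ hp))))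
      obtain ⟨b, hb1, hb2⟩ := Scheme.Pullback.exists_preimage_pullback (f := g) (g := W ↘ A')
        (genericPoint Z) v hμ.symm
      let b' : Z' := (AffineSpace.isPullback_map g).flip.isoPullback.inv b
      have hb' : g' b' = v := by
        rw [← hb2, ← Scheme.Hom.comp_apply, IsPullback.isoPullback_inv_snd]
      exact (hv.antisymm (hb' ▸ (genericPoint_specializes b').map g'.continuous)).eq
    · refine Unibranch.isGeomUnibranch_stalk_affineSpace n _ ?_
      refine Unibranch.isGeomUnibranch_stalk_affineSpace e _ ?_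
      have he : (A' ↘ Y) ((W ↘ A') (g' w')) = (g ≫ t) z := by
        rw [← Scheme.Hom.comp_apply g' (W ↘ A'), AffineSpace.map_over, Scheme.Hom.comp_apply, hw',
          Scheme.Hom.comp_apply]
      exact he ▸ hy
  · haveI : UniversallyOpen t := by
      refine ⟨fun {A B} f₁ i₂ f' hc => ?_⟩
      have hpb := (AffineSpace.isPullback_map (n := ULift.{u} (Fin e)) i₂)
      have he : f' = (hc.flip.isoIsPullback _ _ hpb).hom ≫ (𝔸(ULift.{u} (Fin e); B) ↘ B) :=
        (hc.flip.isoIsPullback_hom_snd _ _ hpb).symm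
      show IsOpenMap f'.base
      rw [he, Scheme.Hom.comp_base]
      exact (AffineSpace.isOpenMap_over (n := ULift.{u} (Fin e)) B).comp (hc.flip.isoIsPullback _ _ hpb).hom.homeomorph.isOpenMap
    haveI : UniversallyOpen (AffineSpace.map ι t) :=
      MorphismProperty.of_isPullback (AffineSpace.isPullback_map t).flip inferInstance
    exact fun U hU => (AffineSpace.map ι t).isOpenMap.image_mem_nhds hU

end Groth.Agent.EGA43.Chevalley
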