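import Groth.Agent.EGA43.Chevalley.Crit
import Groth.Agent.DimLib.Sub
import Groth.Agent.FlatMorDim.Semicont

/-!
# Dimensions of subsets of fibres
-/

set_option autoImplicit false
set_option backward.isDefEq.respectTransparency false
set_option linter.style.haveILetI false

universe u

open CategoryTheory CategoryTheory.Limits AlgebraicGeometry TopologicalSpace

namespace Groth.Agent.EGA43.Chevalley

open Groth.Agent FlatMorWeight

variable {X Y : Scheme.{u}} (f : X ⟶ Y) [LocallyOfFiniteType f]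

/-- The dimension of a locally closed subset of a fibre. -/
theorem topologicalKrullDim_inter_fibre {T : Set X} (hT : IsLocallyClosed T) (y : Y) :
    topologicalKrullDim ↥(T ∩ f.base ⁻¹' {y}) =
      ⨆ z : ↥(T ∩ f.base ⁻¹' {y}), (DimLib.trdegHom (f.residueFieldMap z.1).hom : WithBot ℕ∞) := by
  haveI : LocallyOfFiniteType (f.fiberToSpecResidueField y) :=
    inferInstanceAs (LocallyOfFiniteType (Limits.pullback.snd f (Y.fromSpecResidueField y)))
  let S : Set ↥(f.fiber y) := f.fiberι y ⁻¹' T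
  have himg : (f.fiberι y).base '' S = T ∩ f.base ⁻¹' {y} := by
    rw [Set.image_preimage_eq_inter_range, f.range_fiberι]
  let e : ↥S ≃ₜ ↥(T ∩ f.base ⁻¹' {y}) :=
    ((f.fiberι y).isEmbedding.homeomorphImage S).trans (Homeomorph.setCongr himg)
  rw [← e.isHomeomorph.topologicalKrullDim_eq,
    DimLib.topologicalKrullDim_locallyClosed_eq_iSup (k := Y.residueField y) (f.fiberToSpecResidueField y)
      (hT.preimage (f.fiberι y).continuous), ← e.toEquiv.iSup_comp]
  refine iSup_congr fun a => ?_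
  rw [EGA43.FibDepth.ptDim_fiber f]
  rfl

theorem le_topologicalKrullDim_inter_fibre {T : Set X} (hT : IsLocallyClosed T) {z : X} (hz : z ∈ T) :
    (DimLib.trdegHom (f.residueFieldMap z).hom : WithBot ℕ∞) ≤
      topologicalKrullDim ↥(T ∩ f.base ⁻¹' {f z}) := by
  rw [topologicalKrullDim_inter_fibre f hT]
  exact le_iSup (fun w : ↥(T ∩ f.base ⁻¹' {f z}) => (DimLib.trdegHom (f.residueFieldMap w.1).hom : WithBot ℕ∞))
    ⟨z, hz, rfl⟩

theorem topologicalKrullDim_inter_fibre_le {T : Set X} (hT : IsLocallyClosed T) (y : Y) (n : ℕ)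
    (h : ∀ z ∈ T, f z = y → DimLib.trdegHom (f.residueFieldMap z).hom ≤ n) :
    topologicalKrullDim ↥(T ∩ f.base ⁻¹' {y}) ≤ (n : WithBot ℕ∞) := by
  rw [topologicalKrullDim_inter_fibre f hT]
  exact iSup_le fun z => by exact_mod_cast h _ z.2.1 z.2.2

/-- The generic fibre of an irreducible closed set. -/
theorem topologicalKrullDim_closure_inter_fibre (ξ : X) :
    topologicalKrullDim ↥(closure {ξ} ∩ f.base ⁻¹' {f ξ}) =
      (DimLib.trdegHom (f.residueFieldMap ξ).hom : WithBot ℕ∞) :=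
  le_antisymm
    (topologicalKrullDim_inter_fibre_le f isClosed_closure.isLocallyClosed _ _ fun z hz hzf =>
      trdegHom_le_of_specializes f (specializes_iff_mem_closure.2 hz) (hzf.symm))
    (le_topologicalKrullDim_inter_fibre f isClosed_closure.isLocallyClosed (subset_closure rfl))

theorem le_fibreDimAt (x : X) :
    (DimLib.trdegHom (f.residueFieldMap x).hom : WithBot ℕ∞) ≤ FlatMor.fibreDimAt f x := by
  refine le_iInf fun ⟨V, hV⟩ => ?_
  haveI : LocallyOfFiniteType (f.fiberToSpecResidueField (f x)) :=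
    inferInstanceAs (LocallyOfFiniteType (Limits.pullback.snd f (Y.fromSpecResidueField (f x))))
  let V' : (f.fiber (f x)).Opens := V
  have h := DimLib.ptDim_le_topologicalKrullDim (V'.ι ≫ f.fiberToSpecResidueField (f x)) ⟨f.asFiber x, hV⟩
  rw [DimLib.ptDim_comp_preimmersion, show V'.ι ⟨f.asFiber x, hV⟩ = f.asFiber x from rfl,
    EGA43.FibDepth.ptDim_fiber f, f.fiberι_asFiber] at h
  exact h

theorem fibreDimAt_eq_of_maximal (x : X) (hmax : ∀ w, w ⤳ x → f w = f x → w = x) :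
    FlatMor.fibreDimAt f x = (DimLib.trdegHom (f.residueFieldMap x).hom : WithBot ℕ∞) :=
  le_antisymm ((FlatMorDim.fibreDimAt_le_iff f x _).2 fun w h1 h2 => by rw [hmax w h2 h1])
    (le_fibreDimAt f x)

theorem le_localDim_inter_fibre {T : Set X} (hT : IsLocallyClosed T) (y : Y) (z : ↥(T ∩ f.base ⁻¹' {y})) :
    (DimLib.trdegHom (f.residueFieldMap z.1).hom : WithBot ℕ∞) ≤ FlatMor.localDim _ z := by
  refine le_iInf fun ⟨V, hV⟩ => ?_
  obtain ⟨O, hO, hOV⟩ := isOpen_induced_iff.1 V.isOpen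
  let e : ↥((O ∩ T) ∩ f.base ⁻¹' {y}) ≃ₜ ↥(V : Set ↥(T ∩ f.base ⁻¹' {y})) :=
    { toFun := fun a => ⟨⟨a.1, a.2.1.2, a.2.2⟩, hOV.le a.2.1.1⟩
      invFun := fun b => ⟨b.1.1, ⟨hOV.ge b.2, b.1.2.1⟩, b.1.2.2⟩
      left_inv := fun _ => rfl
      right_inv := fun _ => rfl
      continuous_toFun := Continuous.subtype_mk (Continuous.subtype_mk continuous_subtype_val _) _
      continuous_invFun := Continuous.subtype_mk (continuous_subtype_val.comp continuous_subtype_val) _ }
  rw [← e.isHomeomorph.topologicalKrullDim_eq, topologicalKrullDim_inter_fibre f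
    (hO.isLocallyClosed.inter hT) y]
  exact le_iSup (fun w : ↥((O ∩ T) ∩ f.base ⁻¹' {y}) =>
    (DimLib.trdegHom (f.residueFieldMap w.1).hom : WithBot ℕ∞)) ⟨z.1, ⟨hOV.ge hV, z.2.1⟩, z.2.2⟩

theorem localDim_inter_fibre_le {T : Set X} (y : Y) (z : ↥(T ∩ f.base ⁻¹' {y})) :
    FlatMor.localDim _ z ≤ FlatMor.fibreDimAt f z.1 := by
  obtain ⟨x, hxT, rfl⟩ := z
  refine le_iInf fun ⟨V, hV⟩ => ?_
  obtain ⟨O, hO, hOV⟩ := (f.fiberι (f x)).isEmbedding.isInducing.isOpen_iff.1 V.isOpen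
  have hxO : x ∈ O := by
    have : f.asFiber x ∈ (f.fiberι (f x)).base ⁻¹' O := hOV ▸ hV
    rwa [Set.mem_preimage, f.fiberι_asFiber] at this
  let W : Opens ↥(T ∩ f.base ⁻¹' {f x}) := ⟨Subtype.val ⁻¹' O, hO.preimage continuous_subtype_val⟩
  refine (iInf_le _ ⟨W, hxO⟩).trans ?_
  let φ : ↥(W : Set ↥(T ∩ f.base ⁻¹' {f x})) → ↥(V : Set ↥(f.fiber (f x))) := fun a =>
    let h : a.1.1 ∈ Set.range (f.fiberι (f x)) := (f.range_fiberι (f x)).symm ▸ a.1.2.2
    ⟨h.choose, by
      refine hOV.le ?_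
      show f.fiberι (f x) h.choose ∈ O
      rw [h.choose_spec]; exact a.2⟩
  have hφ : (fun a => (f.fiberι (f x)).base (φ a).1) = fun a => a.1.1 := funext fun a => by
    have h : a.1.1 ∈ Set.range (f.fiberι (f x)) := (f.range_fiberι (f x)).symm ▸ a.1.2.2
    exact h.choose_spec
  have hind : Topology.IsInducing φ := by
    have h1 : Topology.IsInducing fun a => (f.fiberι (f x)).base (φ a).1 := by
      rw [hφ]
      exact Topology.IsInducing.subtypeVal.comp Topology.IsInducing.subtypeVal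
    exact Topology.IsInducing.of_comp
      (by
        have : Continuous fun a => (f.fiberι (f x)).base (φ a).1 := h1.continuous
        exact Continuous.subtype_mk ((f.fiberι (f x)).isEmbedding.continuous_iff.2 this) _)
      ((f.fiberι (f x)).continuous.comp continuous_subtype_val) h1
  exact hind.topologicalKrullDim_le

/-- The local dimension of a subset of the fibre at a maximal point of the fibre. -/
theorem localDim_inter_fibre_eq {T : Set X} (hT : IsLocallyClosed T) (y : Y)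
    (z : ↥(T ∩ f.base ⁻¹' {y})) (hmax : ∀ w, w ⤳ z.1 → f w = y → w = z.1) :
    FlatMor.localDim _ z = (DimLib.trdegHom (f.residueFieldMap z.1).hom : WithBot ℕ∞) := by
  refine le_antisymm ((localDim_inter_fibre_le f y z).trans_eq ?_) (le_localDim_inter_fibre f hT y z)
  exact fibreDimAt_eq_of_maximal f _ fun w h1 h2 => hmax w h1 (h2.trans z.2.2)

/-- Transcendence degrees are upper semicontinuous. -/
theorem isClosed_setOf_exists_le (m : ℕ) :
    IsClosed {a : X | ∃ z, z ⤳ a ∧ f z = f a ∧ m ≤ DimLib.trdegHom (f.residueFieldMap z).hom} := by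
  rcases m with _ | n
  · convert isClosed_univ using 1
    exact Set.eq_univ_of_forall fun a => ⟨a, specializes_rfl, rfl, Nat.zero_le _⟩
  · convert (FlatMorDim.isOpen_fibreDimAt_le f n).isClosed_compl using 1
    ext a
    simp only [Set.mem_compl_iff, Set.mem_ofPred_eq, FlatMorDim.fibreDimAt_le_iff, not_forall, not_le]
    exact ⟨fun ⟨z, h1, h2, h3⟩ => ⟨z, h2, h1, h3⟩, fun ⟨z, h1, h2, h3⟩ => ⟨z, h2, h1, h3⟩⟩

/-- In an irreducible closed set, the generic fibre has the smallest dimension. -/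
theorem trdegHom_le_fibreDimAt {ξ x : X} (h : ξ ⤳ x) (n : ℕ)
    (hn : FlatMor.fibreDimAt f x ≤ (n : WithBot ℕ∞)) :
    DimLib.trdegHom (f.residueFieldMap ξ).hom ≤ n :=
  FlatMorDim.trdegHom_le_of_fibreDimAt_le f ξ n
    (h.mem_open (FlatMorDim.isOpen_fibreDimAt_le f n) hn)

/-- If all neighbourhoods of `x` have a big fibre over a generisation of `f x`, some generisation
of `x` has big transcendence degree. -/
theorem exists_generization_of_forall_nhd [IsLocallyNoetherian X] (x : X) {η : Y} (m : ℕ)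
    (h : ∀ U : X.Opens, x ∈ U → ∃ z ∈ U, f z = η ∧ m ≤ DimLib.trdegHom (f.residueFieldMap z).hom) :
    ∃ z, z ⤳ x ∧ f z = η ∧ m ≤ DimLib.trdegHom (f.residueFieldMap z).hom := by
  obtain ⟨U₀, hU₀, hxU₀, -⟩ := exists_isAffineOpen_mem_and_subset (x := x) (U := ⊤) (Set.mem_univ _)
  haveI : IsAffine U₀.toScheme := hU₀
  haveI : IsNoetherian U₀.toScheme := { }
  let F : Set U₀.toScheme := U₀.ι ⁻¹'
    ({a : X | ∃ z, z ⤳ a ∧ f z = f a ∧ m ≤ DimLib.trdegHom (f.residueFieldMap z).hom} ∩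
      f ⁻¹' closure {η})
  have hF : IsClosed F := ((isClosed_setOf_exists_le f m).inter
    (isClosed_closure.preimage f.continuous)).preimage U₀.ι.continuous
  obtain ⟨S, hSfin, hScl, hSirr, hS⟩ :=
    TopologicalSpace.NoetherianSpace.exists_finite_set_isClosed_irreducible hF
  let S' : Set (Set U₀.toScheme) := {t ∈ S | (⟨x, hxU₀⟩ : U₀.toScheme) ∉ t}
  let W : U₀.toScheme.Opens := ⟨(⋃ t ∈ S', t)ᶜ,
    ((hSfin.subset fun t ht => ht.1).isClosed_biUnion fun t ht => hScl t ht.1).isOpen_compl⟩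
  have hxW : (⟨x, hxU₀⟩ : U₀.toScheme) ∈ W := fun hmem => by
    obtain ⟨t, ht, hxt⟩ := Set.mem_iUnion₂.1 hmem
    exact ht.2 hxt
  obtain ⟨_, ⟨a, haW, rfl⟩, haη, ham⟩ := h (U₀.ι ''ᵁ W) ⟨_, hxW, rfl⟩
  have haF : a ∈ F := ⟨⟨_, specializes_rfl, rfl, ham⟩, specializes_iff_mem_closure.1 (specializes_of_eq haη.symm)⟩
  obtain ⟨t, ht, hat⟩ := Set.mem_sUnion.1 (hS.le haF)
  have hxt : (⟨x, hxU₀⟩ : U₀.toScheme) ∈ t := by
    by_contra hxt
    exact haW (Set.mem_biUnion (x := t) ⟨ht, hxt⟩ hat)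
  obtain ⟨g, hg⟩ := QuasiSober.sober (hSirr t ht) (hScl t ht)
  obtain ⟨⟨z, hz, hzf, hzm⟩, hgη⟩ : g ∈ F := hS ▸ Set.mem_sUnion.2 ⟨t, ht, hg.mem⟩
  refine ⟨z, hz.trans ((hg.specializes hxt).map U₀.ι.continuous), hzf.trans ?_, hzm⟩
  have h1 : f (U₀.ι g) ⤳ η := haη ▸ ((hg.specializes hat).map U₀.ι.continuous).map f.continuous
  exact (h1.antisymm (specializes_iff_mem_closure.2 hgη)).eq

end Groth.Agent.EGA43.Chevalley
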