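import Groth.Agent.EGA43.Chevalley.Open
import Groth.Agent.EGA43.Chevalley.Chart
import Groth.Agent.FlatMorDim.LocalDim

/-!
# Chevalley's criterion for universal openness at a point (EGA IV 14.4.1)
-/

set_option autoImplicit false
set_option backward.isDefEq.respectTransparency false
set_option linter.style.haveILetI false

universe u

open CategoryTheory CategoryTheory.Limits AlgebraicGeometry TopologicalSpace

namespace Groth.Agent.EGA43.Chevalley

open Groth.Agent FlatMorWeight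

variable {X Y : Scheme.{u}}

/-- An open immersion of a spectrum sends minimal primes to maximal points. -/
theorem isMaximalPt_of_isOpenImmersion {P : CommRingCat.{u}} (j : Spec P ⟶ X) [IsOpenImmersion j]
    (Q : Spec P) (hQ : Q.asIdeal ∈ minimalPrimes P) : IsMaximalPt (j Q) := by
  intro z hz
  obtain ⟨Q', rfl⟩ := hz.mem_open j.isOpenEmbedding.isOpen_range ⟨Q, rfl⟩
  have hle := (PrimeSpectrum.le_iff_specializes Q' Q).2
    (j.isOpenEmbedding.isInducing.specializes_iff.1 hz)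
  exact congrArg j (PrimeSpectrum.ext (le_antisymm hle (hQ.2 ⟨Q'.isPrime, bot_le⟩ hle)))

/-- **Chevalley's criterion** at a point: on a component which dominates a component of the base and
whose fibre has no bigger dimension at `x` than over the generic point. -/
theorem isUnivOpenAt_of_trdegHom [IsLocallyNoetherian Y] (f : X ⟶ Y) [LocallyOfFiniteType f]
    {x ξ : X} (hξ : ξ ⤳ x) (hη : IsMaximalPt (f ξ))
    (hy : CAlg2.IsGeomUnibranch (Y.presheaf.stalk (f x)))
    (hd : ∀ x', ξ ⤳ x' → x' ⤳ x → f x' = f x →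
      DimLib.trdegHom (f.residueFieldMap x').hom ≤ DimLib.trdegHom (f.residueFieldMap ξ).hom) :
    EGA43.IsUnivOpenAt f x := by
  obtain ⟨V, hV, hxV, -⟩ := exists_isAffineOpen_mem_and_subset (x := f x) (U := ⊤) (Set.mem_univ _)
  obtain ⟨U, hU, hxU, e'⟩ := exists_isAffineOpen_mem_and_subset (x := x) (U := f ⁻¹ᵁ V) hxV
  have e : U ≤ f ⁻¹ᵁ V := e'
  have hξU : ξ ∈ U := hξ.mem_open U.isOpen hxU
  algebraize [(f.appLE V U e).hom]
  haveI : Algebra.FiniteType Γ(Y, V) Γ(X, U) := f.finiteType_appLE hV hU e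
  have hc : ∀ w (hw : w ∈ U), (hU.primeIdealOf ⟨w, hw⟩).asIdeal.comap (algebraMap Γ(Y, V) Γ(X, U)) =
      (hV.primeIdealOf ⟨f w, e hw⟩).asIdeal := fun w hw =>
    EGA43.FibDepth.comap_primeIdealOf f hV hU e hw
  obtain ⟨n, B, _, _, φ, ψ, hcomp, hft, hqf, hmin, q₀, hq₀⟩ := exists_chart
    (hU.primeIdealOf ⟨ξ, hξU⟩) (hU.primeIdealOf ⟨x, hxU⟩)
    ((primeIdealOf_le_iff hU _ _).2 hξ)
    (by rw [hc ξ hξU]; exact mem_minimalPrimes_primeIdealOf hV _ hη) fun q' h1 h2 h3 => by
      have hw : hU.fromSpec q' ∈ U := hU.range_fromSpec.le ⟨q', rfl⟩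
      have hq : hU.primeIdealOf ⟨_, hw⟩ = q' :=
        hU.fromSpec.isOpenEmbedding.injective (hU.fromSpec_primeIdealOf ⟨_, hw⟩)
      rw [← hq, ← EGA43.FibDepth.trdegHom_residueFieldMap f hV hU e hw,
        ← EGA43.FibDepth.trdegHom_residueFieldMap f hV hU e hξU]
      rw [← hq] at h1 h2 h3
      refine hd _ ((primeIdealOf_le_iff hU _ _).1 h1) ((primeIdealOf_le_iff hU _ _).1 h2) ?_
      rw [hc _ hw, hc x hxU] at h3
      have h4 := congrArg hV.fromSpec (PrimeSpectrum.ext h3)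
      rwa [hV.fromSpec_primeIdealOf, hV.fromSpec_primeIdealOf] at h4
  let P := CommRingCat.of (MvPolynomial (ULift.{u} (Fin n)) Γ(Y, V))
  haveI : IsOpenImmersion (AffineSpace.map (ULift.{u} (Fin n)) hV.fromSpec) :=
    MorphismProperty.of_isPullback (AffineSpace.isPullback_map hV.fromSpec).flip inferInstance
  let j : Spec P ⟶ 𝔸(ULift.{u} (Fin n); Y) :=
    (AffineSpace.SpecIso (ULift.{u} (Fin n)) Γ(Y, V)).inv ≫ AffineSpace.map _ hV.fromSpec
  haveI : LocallyQuasiFinite (Spec.map (CommRingCat.ofHom ψ : P ⟶ .of B)) :=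
    (HasRingHomProperty.Spec_iff (P := @LocallyQuasiFinite)).2 hqf
  haveI : LocallyOfFiniteType (Spec.map (CommRingCat.ofHom ψ : P ⟶ .of B)) :=
    (HasRingHomProperty.Spec_iff (P := @LocallyOfFiniteType)).2 hft
  let g : Spec (.of B) ⟶ 𝔸(ULift.{u} (Fin n); Y) := Spec.map (CommRingCat.ofHom ψ : P ⟶ .of B) ≫ j
  let h : Spec (.of B) ⟶ X := Spec.map (CommRingCat.ofHom φ) ≫ hU.fromSpec
  have hfac : g ≫ (𝔸(ULift.{u} (Fin n); Y) ↘ Y) = h ≫ f := by
    simp only [g, h, j, Category.assoc, AffineSpace.map_over, AffineSpace.SpecIso_inv_over_assoc]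
    rw [← IsAffineOpen.SpecMap_appLE_fromSpec f hV hU e, ← Category.assoc, ← Category.assoc,
      ← Spec.map_comp, ← Spec.map_comp]
    congr 2
    exact CommRingCat.hom_ext hcomp
  have hx : h q₀ = x := by
    show hU.fromSpec (PrimeSpectrum.comap φ q₀) = x
    rw [hq₀, hU.fromSpec_primeIdealOf]
  haveI : IrreducibleSpace (Spec (CommRingCat.of B)) :=
    inferInstanceAs (IrreducibleSpace (PrimeSpectrum B))
  have hgen : genericPoint (Spec (CommRingCat.of B)) = (⟨⊥, Ideal.isPrime_bot⟩ : PrimeSpectrum B) := by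
    refine IsGenericPoint.eq (genericPoint_spec _) (isGenericPoint_def.2 (Set.eq_univ_of_forall fun w => ?_))
    exact specializes_iff_mem_closure.1
      ((PrimeSpectrum.le_iff_specializes (⟨⊥, Ideal.isPrime_bot⟩ : PrimeSpectrum B) w).1
        (show (⊥ : Ideal B) ≤ w.asIdeal from bot_le))
  have hmax : IsMaximalPt (g (genericPoint (Spec (CommRingCat.of B)))) := by
    rw [hgen]
    refine isMaximalPt_of_isOpenImmersion j _ ?_
    show (⊥ : Ideal B).comap ψ ∈ _
    rwa [← RingHom.ker_eq_comap_bot]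
  have hy' : CAlg2.IsGeomUnibranch (Y.presheaf.stalk ((g ≫ (𝔸(ULift.{u} (Fin n); Y) ↘ Y)) q₀)) := by
    have : (g ≫ (𝔸(ULift.{u} (Fin n); Y) ↘ Y)) q₀ = f x := by
      rw [hfac, Scheme.Hom.comp_apply, hx]
    exact this ▸ hy
  have := isUnivOpenAt_of_quasiFinite n g hmax q₀ hy'
  rw [hfac] at this
  exact hx ▸ isUnivOpenAt_of_comp h f q₀ this

end Groth.Agent.EGA43.Chevalley
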