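import Groth.Prelude.Def_EGA43
import Mathlib.AlgebraicGeometry.Morphisms.Flat
import Mathlib.AlgebraicGeometry.Morphisms.UniversallyOpen

/-!
# Universal openness passes to specialisations inside a fibre
-/

set_option autoImplicit false
set_option backward.isDefEq.respectTransparency false
set_option linter.style.haveILetI false

universe u

open CategoryTheory CategoryTheory.Limits AlgebraicGeometry TopologicalSpace

namespace Groth.Agent.EGA43.Chevalley

variable {X Y : Scheme.{u}}

/-- A map open at a point is open at its specialisations in the same fibre. -/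
theorem isOpenAt_of_specializes {α β : Type*} [TopologicalSpace α] [TopologicalSpace β] {f : α → β}
    {z x : α} (h : z ⤳ x) (he : f z = f x) (hz : EGA43.IsOpenAt f z) : EGA43.IsOpenAt f x := by
  intro U hU
  rw [← he]
  exact hz U (h hU)

theorem flat_specMap_of_field {K L : Type u} [Field K] [Field L] (φ : CommRingCat.of K ⟶ CommRingCat.of L) :
    Flat (Spec.map φ) :=
  (HasRingHomProperty.Spec_iff (P := @Flat)).2 (by
    algebraize [φ.hom]
    exact RingHom.flat_algebraMap_iff.2 inferInstance)

/-- Points of the fibres of a base change lift generisations in the fibres of `f`. -/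
theorem exists_specializes_pullback (f : X ⟶ Y) {Y' : Scheme.{u}} (g : Y' ⟶ Y) (p : ↥(pullback f g))
    {z : X} (hz : z ⤳ pullback.fst f g p) (he : f z = f (pullback.fst f g p)) :
    ∃ q : ↥(pullback f g), q ⤳ p ∧ pullback.fst f g q = z ∧ pullback.snd f g q = pullback.snd f g p := by
  let s := pullback.snd f g
  let y' := s p
  let ρ := g.residueFieldMap y'
  let k := Y'.fromSpecResidueField y'
  let k₀ := Y.fromSpecResidueField (g y')
  have hk : Spec.map ρ ≫ k₀ = k ≫ g := Scheme.Hom.SpecMap_residueFieldMap_fromSpecResidueField g y'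
  haveI : Flat (Spec.map ρ) := flat_specMap_of_field ρ
  let R := pullback (pullback.snd f k₀) (Spec.map ρ)
  let Φ : pullback s k ≅ R :=
    pullbackLeftPullbackSndIso f g k ≪≫ pullback.congrHom rfl hk.symm ≪≫
      (pullbackLeftPullbackSndIso f k₀ (Spec.map ρ)).symm
  have hΦ : Φ.hom ≫ pullback.fst _ _ ≫ pullback.fst f k₀ = pullback.fst s k ≫ pullback.fst f g := by
    simp [Φ, R, s]
  haveI : Flat (pullback.fst (pullback.snd f k₀) (Spec.map ρ)) :=
    MorphismProperty.pullback_fst _ _ inferInstance
  obtain ⟨a, ha⟩ : p ∈ Set.range (s.fiberι y') := by rw [s.range_fiberι]; rfl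
  change pullback.fst s k a = p at ha
  let r := Φ.hom a
  have hr : pullback.fst f k₀ (pullback.fst (pullback.snd f k₀) (Spec.map ρ) r) = pullback.fst f g p := by
    rw [← Scheme.Hom.comp_apply, ← Scheme.Hom.comp_apply, hΦ, Scheme.Hom.comp_apply, ha]
  have hy : g y' = f z := by
    show g (pullback.snd f g p) = _
    rw [he, ← Scheme.Hom.comp_apply, ← Scheme.Hom.comp_apply, pullback.condition]
  obtain ⟨c, hc⟩ : z ∈ Set.range (f.fiberι (g y')) := by rw [f.range_fiberι]; exact hy.symm
  change pullback.fst f k₀ c = z at hc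
  have hcr : c ⤳ pullback.fst (pullback.snd f k₀) (Spec.map ρ) r := by
    refine ((f.fiberι (g y')).isEmbedding.isInducing.specializes_iff).1 ?_
    show pullback.fst f k₀ c ⤳ pullback.fst f k₀ _
    rw [hc, hr]; exact hz
  obtain ⟨r', hr', hr''⟩ := Flat.generalizingMap (pullback.fst (pullback.snd f k₀) (Spec.map ρ)) hcr
  refine ⟨pullback.fst s k (Φ.inv r'), ?_, ?_, ?_⟩
  · have h1 := (hr'.map Φ.inv.continuous).map (pullback.fst s k).continuous
    refine h1.trans (specializes_of_eq ?_)
    show pullback.fst s k (Φ.inv (Φ.hom a)) = p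
    rw [← Scheme.Hom.comp_apply Φ.hom, Iso.hom_inv_id]; simpa using ha
  · rw [← Scheme.Hom.comp_apply, ← hΦ, ← Scheme.Hom.comp_apply, Iso.inv_hom_id_assoc,
      Scheme.Hom.comp_apply, hr'', hc]
  · have h1 : pullback.fst s k (Φ.inv r') ∈ Set.range (s.fiberι y') := ⟨_, rfl⟩
    rw [s.range_fiberι] at h1
    exact h1

/-- Universal openness at a point passes to its specialisations in the fibre. -/
theorem isUnivOpenAt_of_specializes (f : X ⟶ Y) {z x : X} (h : z ⤳ x) (he : f z = f x)
    (hz : EGA43.IsUnivOpenAt f z) : EGA43.IsUnivOpenAt f x := by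
  intro Y' g p hp
  obtain ⟨q, hq, hqz, hqy⟩ := exists_specializes_pullback f g p (z := z) (hp ▸ h) (hp ▸ he)
  exact isOpenAt_of_specializes hq hqy (hz Y' g q hqz)

/-- A morphism universally open at all points is universally open. -/
theorem universallyOpen_of_forall (f : X ⟶ Y) (h : ∀ x, EGA43.IsUnivOpenAt f x) : UniversallyOpen f := by
  refine ⟨fun {A B} i₁ i₂ f' hc => ?_⟩
  show IsOpenMap f'.base
  refine isOpenMap_iff_nhds_le.2 fun a N hN => ?_
  let e := hc.flip.isoPullback
  have he : f'.base = (pullback.snd f i₂).base ∘ e.hom.base := funext fun w => by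
    rw [Function.comp_apply, ← Scheme.Hom.comp_apply]
    simp [e]
  have hopen := h (pullback.fst f i₂ (e.hom a)) B i₂ (e.hom a) rfl
  have hN' : f'.base ⁻¹' N ∈ nhds a := hN
  have h2 := hopen _ (e.hom.homeomorph.isOpenMap.image_mem_nhds hN')
  refine Filter.mem_of_superset (show _ ∈ nhds (f'.base a) by rw [he]; exact h2) ?_
  rintro _ ⟨_, ⟨w, hw, rfl⟩, rfl⟩
  have : f'.base w = pullback.snd f i₂ (e.hom.base w) := congrFun he w
  exact this ▸ hw

end Groth.Agent.EGA43.Chevalley
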