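import Groth.Agent.EGA43.Chevalley.DimOne
import Mathlib.RingTheory.Valuation.LocalSubring
import Mathlib.RingTheory.TensorProduct.MvPolynomial
import Mathlib.RingTheory.Ideal.MinimalPrime.Localization
import Mathlib.AlgebraicGeometry.Morphisms.UniversallyOpen

/-!
# Universally open morphisms do not drop the dimension of fibres along generizations

The base is arbitrary: a valuation ring is put between the two points.
-/

set_option autoImplicit false
set_option backward.isDefEq.respectTransparency false
set_option linter.style.haveILetI false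

universe u

open TensorProduct CategoryTheory AlgebraicGeometry

namespace Groth.Agent.EGA43.Chevalley

open Groth.Agent FibDepth

/-- Over a valuation ring a nonzero polynomial is a constant times a primitive one. -/
theorem exists_eq_C_mul_primitive {V σ : Type*} [CommRing V] [IsDomain V] [ValuationRing V]
    (h : MvPolynomial σ V) (h0 : h ≠ 0) :
    ∃ (c : V) (h1 : MvPolynomial σ V) (m : σ →₀ ℕ), c ≠ 0 ∧ h = MvPolynomial.C c * h1 ∧ h1.coeff m = 1 := by
  classical
  have key : ∀ s : Finset (σ →₀ ℕ), s.Nonempty → ∃ m ∈ s, ∀ n ∈ s, h.coeff m ∣ h.coeff n := by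
    intro s hs
    induction hs using Finset.Nonempty.cons_induction with
    | singleton a => exact ⟨a, Finset.mem_singleton_self a, fun n hn => (Finset.mem_singleton.1 hn) ▸ dvd_rfl⟩
    | cons a s ha hs ih =>
      obtain ⟨m, hm, hd⟩ := ih
      rcases ValuationRing.dvd_total (h.coeff a) (h.coeff m) with h' | h'
      · refine ⟨a, Finset.mem_cons_self a s, fun n hn => ?_⟩
        rcases Finset.mem_cons.1 hn with rfl | hn
        exacts [dvd_rfl, h'.trans (hd n hn)]
      · refine ⟨m, Finset.mem_cons.2 (Or.inr hm), fun n hn => ?_⟩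
        rcases Finset.mem_cons.1 hn with rfl | hn
        exacts [h', hd n hn]
  obtain ⟨m, hm, hd⟩ := key h.support (MvPolynomial.support_nonempty.2 h0)
  have hc : h.coeff m ≠ 0 := MvPolynomial.mem_support_iff.1 hm
  obtain ⟨h1, hh1⟩ : MvPolynomial.C (h.coeff m) ∣ h := by
    rw [MvPolynomial.C_dvd_iff_dvd_coeff]
    intro n
    by_cases hn : n ∈ h.support
    · exact hd n hn
    · rw [MvPolynomial.notMem_support_iff.1 hn]; exact dvd_zero _
  refine ⟨_, h1, m, hc, hh1, ?_⟩
  have := congrArg (MvPolynomial.coeff m) hh1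
  rw [MvPolynomial.coeff_C_mul] at this
  exact (mul_eq_left₀ hc).1 this.symm

/-- A valuation ring sitting between two comparable primes. -/
theorem exists_valuationRing {A : Type u} [CommRing A] {p0 p : Ideal A} [p0.IsPrime] [p.IsPrime]
    (hle : p0 ≤ p) :
    ∃ (V : Type u) (_ : CommRing V) (_ : IsDomain V) (_ : ValuationRing V) (ψ : A →+* V),
      RingHom.ker ψ = p0 ∧ (IsLocalRing.maximalIdeal V).comap ψ = p := by
  let φ : Localization.AtPrime p →+* p0.ResidueField :=
    IsLocalization.lift (M := p.primeCompl) (g := algebraMap A p0.ResidueField) fun s =>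
      isUnit_iff_ne_zero.2 fun hs => s.2 (hle (Ideal.algebraMap_residueField_eq_zero.1 hs))
  obtain ⟨V, hV, hloc⟩ := (LocalSubring.range φ).exists_le_valuationSubring
  let ψ' : Localization.AtPrime p →+* V := (Subring.inclusion hV).comp φ.rangeRestrict
  haveI : IsLocalHom φ.rangeRestrict := .of_surjective _ φ.rangeRestrict_surjective
  haveI hψ' : IsLocalHom ψ' := ⟨fun a ha => (isUnit_map_iff φ.rangeRestrict a).1 (hloc.1 _ ha)⟩
  refine ⟨V, inferInstance, inferInstance, inferInstance, ψ'.comp (algebraMap A _), ?_, ?_⟩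
  · ext a
    rw [RingHom.mem_ker, ← Ideal.algebraMap_residueField_eq_zero (I := p0), Subtype.ext_iff]
    show φ (algebraMap A _ a) = 0 ↔ _
    rw [IsLocalization.lift_eq]
  · have h5 : (IsLocalRing.maximalIdeal V).comap ψ' = IsLocalRing.maximalIdeal _ :=
      ((IsLocalRing.local_hom_TFAE ψ').out 0 4).1 hψ'
    rw [← Ideal.comap_comap, h5]
    exact IsLocalization.AtPrime.comap_maximalIdeal (Localization.AtPrime p) p

/-- Independent elements stay independent at some prime after extending the base field. -/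
theorem exists_prime_aeval_comap_bot {K E F : Type u} [Field K] [Field E] [Field F] [Algebra K E] [Algebra K F]
    {ι : Type u} (v : ι → F) (hv : AlgebraicIndependent K v) :
    ∃ Q1 : Ideal (E ⊗[K] F), Q1.IsPrime ∧
      Q1.comap (MvPolynomial.aeval (R := E) fun i => ((1 : E) ⊗ₜ[K] v i : E ⊗[K] F)).toRingHom = ⊥ := by
  refine Ideal.exists_comap_eq_of_mem_minimalPrimes_of_injective
    (f := (MvPolynomial.aeval (R := E) fun i => ((1 : E) ⊗ₜ[K] v i : E ⊗[K] F)).toRingHom) ?_ (⊥ : Ideal _)
    (by rw [IsDomain.minimalPrimes_eq_singleton_bot]; rfl)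
  have he : (MvPolynomial.aeval (R := E) fun i => ((1 : E) ⊗ₜ[K] v i : E ⊗[K] F)) =
      (Algebra.TensorProduct.map (AlgHom.id E E) (MvPolynomial.aeval (R := K) v)).comp
        (MvPolynomial.algebraTensorAlgEquiv (σ := ι) K E).symm.toAlgHom :=
    MvPolynomial.algHom_ext fun i => by simp
  show Function.Injective (MvPolynomial.aeval (R := E) fun i => ((1 : E) ⊗ₜ[K] v i : E ⊗[K] F))
  rw [he]
  intro a b hab
  refine (MvPolynomial.algebraTensorAlgEquiv (σ := ι) K E).symm.injective ?_
  exact Module.Flat.lTensor_preserves_injective_linearMap (M := E)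
    (MvPolynomial.aeval (R := K) v).toLinearMap hv hab

theorem exists_generization_trd_le {A B : Type u} [CommRing A] [CommRing B] [Algebra A B]
    [Algebra.FiniteType A B] (ho : UniversallyOpen (Spec.map (CommRingCat.ofHom (algebraMap A B))))
    (p0 : Ideal A) [p0.IsPrime] (Q : PrimeSpectrum B) (hle : p0 ≤ Q.asIdeal.comap (algebraMap A B)) :
    ∃ P : PrimeSpectrum B, P.asIdeal ≤ Q.asIdeal ∧ P.asIdeal.comap (algebraMap A B) = p0 ∧
      trd A Q ≤ trd A P := by
  classical
  let p := Q.asIdeal.comap (algebraMap A B)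
  haveI : Q.asIdeal.LiesOver p := ⟨rfl⟩
  -- algebraically independent elements of the residue ring at `Q`
  haveI : Algebra.FiniteType (A ⧸ p) (B ⧸ Q.asIdeal) := Algebra.FiniteType.of_restrictScalars_finiteType A _ _
  haveI : FaithfulSMul (A ⧸ p) (B ⧸ Q.asIdeal) :=
    (faithfulSMul_iff_algebraMap_injective _ _).2 (Ideal.quotientMap_injective' le_rfl)
  obtain ⟨ι, x, hx⟩ := exists_isTranscendenceBasis' (A ⧸ p) (B ⧸ Q.asIdeal)
  have hι : Cardinal.mk ι = Algebra.trdeg (A ⧸ p) (B ⧸ Q.asIdeal) := hx.cardinalMk_eq_trdeg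
  choose t ht using fun i => Ideal.Quotient.mk_surjective (x i)
  -- the valuation ring
  obtain ⟨V, _, _, _, ψ, hker, hcomap⟩ := exists_valuationRing (p := p) hle
  letI : Algebra A V := ψ.toAlgebra
  let k := IsLocalRing.ResidueField V
  haveI : p.IsPrime := inferInstance
  let jk : p.ResidueField →+* k := Ideal.ResidueField.lift p ((IsLocalRing.residue V).comp ψ)
    (fun a ha => by
      rw [RingHom.mem_ker, RingHom.comp_apply, IsLocalRing.residue_eq_zero_iff]
      rw [← hcomap] at ha
      exact ha)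
    (fun a ha => isUnit_iff_ne_zero.2 fun h0 => ha (by
      rw [RingHom.comp_apply, IsLocalRing.residue_eq_zero_iff] at h0
      show a ∈ p
      rw [← hcomap]
      exact h0))
  letI : Algebra p.ResidueField k := jk.toAlgebra
  have hjk : ∀ a, jk (algebraMap A p.ResidueField a) = IsLocalRing.residue V (ψ a) := fun a =>
    Ideal.ResidueField.lift_algebraMap ..
  let jL : p.ResidueField →+* Q.asIdeal.ResidueField :=
    Ideal.ResidueField.map p Q.asIdeal (algebraMap A B) rfl
  letI : Algebra p.ResidueField Q.asIdeal.ResidueField := jL.toAlgebra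
  let L := Q.asIdeal.ResidueField
  have hjL : ∀ a, jL (algebraMap A p.ResidueField a) = algebraMap B L (algebraMap A B a) := fun a =>
    Ideal.ResidueField.map_algebraMap ..
  let C := k ⊗[p.ResidueField] L
  let tL : ι → L := fun i => algebraMap B L (t i)
  -- independence persists in `L`
  letI : Algebra (A ⧸ p) L := ((algebraMap (B ⧸ Q.asIdeal) L).comp (algebraMap (A ⧸ p) (B ⧸ Q.asIdeal))).toAlgebra
  haveI : IsScalarTower (A ⧸ p) (B ⧸ Q.asIdeal) L := IsScalarTower.of_algebraMap_eq' rfl
  have hL : AlgebraicIndependent p.ResidueField tL := by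
    have h1 : AlgebraicIndependent (A ⧸ p) (fun i => algebraMap (B ⧸ Q.asIdeal) L (x i)) :=
      hx.1.map' (f := IsScalarTower.toAlgHom (A ⧸ p) (B ⧸ Q.asIdeal) L)
        (FaithfulSMul.algebraMap_injective _ _)
    have e : (fun i => algebraMap (B ⧸ Q.asIdeal) L (x i)) = tL := funext fun i => by
      show algebraMap (B ⧸ Q.asIdeal) L (x i) = algebraMap B L (t i)
      rw [← ht i]; rfl
    rw [e] at h1
    haveI : IsScalarTower (A ⧸ p) p.ResidueField L := IsScalarTower.of_algebraMap_eq' (by
      refine Ideal.Quotient.ringHom_ext (RingHom.ext fun a => ?_)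
      show algebraMap (B ⧸ Q.asIdeal) L (Ideal.Quotient.mk _ (algebraMap A B a)) = jL (algebraMap A p.ResidueField a)
      exact (hjL a).symm)
    haveI : Algebra.IsAlgebraic (A ⧸ p) p.ResidueField := IsLocalization.isAlgebraic _ (nonZeroDivisors (A ⧸ p))
    exact h1.extendScalars p.ResidueField
  obtain ⟨Q1, hQ1p, hQ1⟩ := exists_prime_aeval_comap_bot (E := k) tL hL
  -- the point of the fibre over the closed point of `V`
  let l : V →ₐ[A] C :=
    { (Algebra.TensorProduct.includeLeftRingHom (R := p.ResidueField) (A := k) (B := L)).comp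
        (IsLocalRing.residue V) with
      commutes' := fun a => by
        show ((IsLocalRing.residue V (ψ a)) ⊗ₜ[p.ResidueField] (1 : L) : C) = _
        rfl }
  let r : B →ₐ[A] C :=
    { (Algebra.TensorProduct.includeRight : L →ₐ[p.ResidueField] C).toRingHom.comp (algebraMap B L) with
      commutes' := fun a => by
        show (Algebra.TensorProduct.includeRight : L →ₐ[p.ResidueField] C) (algebraMap B L (algebraMap A B a)) = _
        rw [← hjL a]
        exact ((Algebra.TensorProduct.includeRight : L →ₐ[p.ResidueField] C).commutes _).trans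
          (congrArg (fun z : k => (z ⊗ₜ[p.ResidueField] (1 : L) : C)) (hjk a)) }
  let T := V ⊗[A] B
  let Φ : T →ₐ[A] C := Algebra.TensorProduct.lift l r fun _ _ => Commute.all _ _
  haveI := hQ1p
  let Q' : Ideal T := Q1.comap Φ.toRingHom
  have hQ'B : Q'.comap (Algebra.TensorProduct.includeRight : B →ₐ[A] T).toRingHom = Q.asIdeal := by
    ext b
    have : Φ ((1 : V) ⊗ₜ[A] b) = (Algebra.TensorProduct.includeRight : L →ₐ[p.ResidueField] C) (algebraMap B L b) := by
      rw [Algebra.TensorProduct.lift_tmul, map_one, one_mul]; rfl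
    show Φ ((1 : V) ⊗ₜ[A] b) ∈ Q1 ↔ _
    rw [this, ← Ideal.algebraMap_residueField_eq_zero (I := Q.asIdeal)]
    refine ⟨fun h => ?_, fun h => by rw [h, map_zero]; exact zero_mem _⟩
    by_contra hb
    exact hQ1p.ne_top (Ideal.eq_top_of_isUnit_mem _ h ((isUnit_iff_ne_zero.2 hb).map _))
  -- generizing to the generic point of `V`
  have hop : IsOpenMap (PrimeSpectrum.comap (algebraMap V T)) := by
    haveI : UniversallyOpen (Spec.map (CommRingCat.ofHom (algebraMap V T))) :=
      MorphismProperty.of_isPullback (P := @UniversallyOpen)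
        (isPullback_SpecMap_of_isPushout _ _ _ _ (CommRingCat.isPushout_tensorProduct A V B).flip) ho
    exact (Spec.map (CommRingCat.ofHom (algebraMap V T))).isOpenMap
  let M : Submonoid T := (nonZeroDivisors V).map (algebraMap V T) ⊔ Q'.primeCompl
  have hM : Disjoint ((⊥ : Ideal T) : Set T) M := by
    rw [Set.disjoint_left]
    intro z hz hzM
    obtain ⟨a, ha, s, hs, rfl⟩ := Submonoid.mem_sup.1 hzM
    obtain ⟨c, hc, rfl⟩ := Submonoid.mem_map.1 ha
    have himg := hop _ (PrimeSpectrum.isOpen_basicOpen (a := s))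
    have hmem : PrimeSpectrum.comap (algebraMap V T) ⟨Q', inferInstance⟩ ∈
        PrimeSpectrum.comap (algebraMap V T) '' (PrimeSpectrum.basicOpen s : Set (PrimeSpectrum T)) :=
      ⟨_, hs, rfl⟩
    obtain ⟨P'', hP'', heq⟩ := ((PrimeSpectrum.le_iff_specializes ⟨⊥, Ideal.isPrime_bot⟩ _).1 bot_le).mem_open
      himg hmem
    have h0 : algebraMap V T c * s ∈ P''.asIdeal := by rw [show algebraMap V T c * s = 0 from hz]; exact zero_mem _
    refine (P''.isPrime.mem_or_mem h0).elim (fun hc' => ?_) (fun h => hP'' h)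
    have : c ∈ (PrimeSpectrum.comap (algebraMap V T) P'').asIdeal := hc'
    rw [heq] at this
    exact nonZeroDivisors.ne_zero hc this
  obtain ⟨P', hP'p, -, hP'd⟩ := Ideal.exists_le_prime_disjoint ⊥ M hM
  haveI := hP'p
  have hP'Q : P' ≤ Q' := fun z hz => by
    by_contra hzQ
    exact Set.disjoint_left.1 hP'd hz (Submonoid.mem_sup_right (show z ∈ Q'.primeCompl from hzQ))
  have hP'V : ∀ c, algebraMap V T c ∈ P' → c = 0 := fun c hc => by
    by_contra hc0
    exact Set.disjoint_left.1 hP'd hc
      (Submonoid.mem_sup_left (Submonoid.mem_map_of_mem _ (mem_nonZeroDivisors_of_ne_zero hc0)))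
  let P : PrimeSpectrum B := ⟨P'.comap (Algebra.TensorProduct.includeRight : B →ₐ[A] T).toRingHom, inferInstance⟩
  have hcomm : ∀ a, (Algebra.TensorProduct.includeRight : B →ₐ[A] T) (algebraMap A B a) = algebraMap V T (ψ a) :=
    fun a => ((Algebra.TensorProduct.includeRight : B →ₐ[A] T).commutes a).trans (IsScalarTower.algebraMap_apply A V T a)
  have hPp : P.asIdeal.comap (algebraMap A B) = p0 := by
    ext a
    show (Algebra.TensorProduct.includeRight : B →ₐ[A] T) (algebraMap A B a) ∈ P' ↔ _
    rw [hcomm, ← hker]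
    exact ⟨hP'V _, fun h => by rw [RingHom.mem_ker.1 h, map_zero]; exact zero_mem _⟩
  refine ⟨P, hQ'B ▸ Ideal.comap_mono hP'Q, hPp, ?_⟩
  haveI : P.asIdeal.LiesOver p0 := ⟨hPp.symm⟩
  rw [trd_eq_trdeg_quotient p Q, trd_eq_trdeg_quotient p0 P, ← hι]
  haveI : Algebra.FiniteType (A ⧸ p0) (B ⧸ P.asIdeal) := Algebra.FiniteType.of_restrictScalars_finiteType A _ _
  refine Cardinal.toNat_le_toNat (AlgebraicIndependent.cardinalMk_le_trdeg
    (x := fun i => Ideal.Quotient.mk P.asIdeal (t i)) ?_) trdeg_lt_aleph0_of_finiteType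
  refine algebraicIndependent_iff.2 fun g0 hg0 => ?_
  obtain ⟨g, rfl⟩ := MvPolynomial.map_surjective (Ideal.Quotient.mk p0) Ideal.Quotient.mk_surjective g0
  have hg1 : MvPolynomial.aeval t g ∈ P.asIdeal := by
    rw [← Ideal.Quotient.eq_zero_iff_mem, ← hg0, MvPolynomial.aeval_def, MvPolynomial.aeval_def,
      MvPolynomial.eval₂_comp_left, MvPolynomial.eval₂_map]
    rfl
  let tT : ι → T := fun i => (Algebra.TensorProduct.includeRight : B →ₐ[A] T) (t i)
  let h : MvPolynomial ι V := MvPolynomial.map ψ g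
  have hh : MvPolynomial.aeval (R := V) tT h ∈ P' := by
    have : MvPolynomial.aeval (R := V) tT h = (Algebra.TensorProduct.includeRight : B →ₐ[A] T) (MvPolynomial.aeval t g) := by
      rw [show h = MvPolynomial.map (algebraMap A V) g from rfl, MvPolynomial.aeval_map_algebraMap]
      exact (MvPolynomial.comp_aeval_apply (f := t) (Algebra.TensorProduct.includeRight : B →ₐ[A] T) g).symm
    rw [this]; exact hg1
  have h0 : h = 0 := by
    by_contra h0
    obtain ⟨c, h1, m, hc, hh1, hm⟩ := exists_eq_C_mul_primitive h h0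
    rw [hh1, map_mul, MvPolynomial.aeval_C] at hh
    have h2 : MvPolynomial.aeval (R := V) tT h1 ∈ Q' :=
      hP'Q ((hP'p.mem_or_mem hh).resolve_left fun h => hc (hP'V c h))
    have h3 : ∀ q : MvPolynomial ι V, Φ (MvPolynomial.aeval (R := V) tT q) =
        MvPolynomial.aeval (R := k) (fun i => ((1 : k) ⊗ₜ[p.ResidueField] tL i : C))
          (MvPolynomial.map (IsLocalRing.residue V) q) := by
      intro q
      induction q using MvPolynomial.induction_on with
      | C a =>
        rw [MvPolynomial.aeval_C, MvPolynomial.map_C, MvPolynomial.aeval_C]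
        show Φ (a ⊗ₜ[A] (1 : B)) = _
        rw [Algebra.TensorProduct.lift_tmul, map_one, mul_one]; rfl
      | add q q' hq hq' => simp only [map_add, hq, hq']
      | mul_X q i hq =>
        simp only [map_mul, hq, MvPolynomial.map_X, MvPolynomial.aeval_X]
        congr 1
        show Φ ((1 : V) ⊗ₜ[A] t i) = _
        rw [Algebra.TensorProduct.lift_tmul, map_one, one_mul]; rfl
    have h4 : MvPolynomial.map (IsLocalRing.residue V) h1 ∈ (⊥ : Ideal (MvPolynomial ι k)) := by
      rw [← hQ1]
      show MvPolynomial.aeval (R := k) _ _ ∈ Q1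
      rw [← h3]; exact h2
    have := congrArg (MvPolynomial.coeff m) (Ideal.mem_bot.1 h4)
    rw [MvPolynomial.coeff_map, hm, map_one, MvPolynomial.coeff_zero] at this
    exact one_ne_zero this
  refine MvPolynomial.ext _ _ fun n => ?_
  rw [MvPolynomial.coeff_map, MvPolynomial.coeff_zero, Ideal.Quotient.eq_zero_iff_mem, ← hker, RingHom.mem_ker]
  have := congrArg (MvPolynomial.coeff n) h0
  rwa [MvPolynomial.coeff_map, MvPolynomial.coeff_zero] at this

end Groth.Agent.EGA43.Chevalley
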