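import Groth.Agent.EGA43.Chevalley.DimOne
import Groth.Agent.FlatMorDim.Semicont

/-!
# An open morphism does not lose fibre dimension over generisations (EGA IV 14.3.1)
-/

set_option autoImplicit false
set_option backward.isDefEq.respectTransparency false
set_option linter.style.haveILetI false

universe u

open CategoryTheory CategoryTheory.Limits AlgebraicGeometry TopologicalSpace

namespace Groth.Agent.EGA43.Chevalley

open Groth.Agent FlatMorWeight

variable {X Y : Scheme.{u}}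

/-- An immediate generisation outside a closed set not containing a given generisation. -/
theorem exists_immediate_generization [IsLocallyNoetherian Y] {y η : Y} (h : η ⤳ y) (hne : η ≠ y)
    {F : Set Y} (hF : IsClosed F) (hηF : η ∉ F) :
    ∃ y', η ⤳ y' ∧ y' ⤳ y ∧ y' ≠ y ∧ y' ∉ F ∧ ∀ w, y' ⤳ w → w ⤳ y → w = y' ∨ w = y := by
  let L := Y.presheaf.stalk y
  let e := Y.fromSpecStalk y
  have hemb := (Y.fromSpecStalk y).isEmbedding
  have hrange : ∀ w, w ⤳ y → ∃ r : Spec L, e r = w := fun w hw =>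
    (Scheme.range_fromSpecStalk (X := Y) (x := y)).ge hw
  have hspec : ∀ r : Spec L, e r ⤳ y := fun r => (Scheme.range_fromSpecStalk (X := Y) (x := y)).le ⟨r, rfl⟩
  obtain ⟨pη, hpη⟩ := hrange η h
  obtain ⟨m, hm⟩ := hrange y specializes_rfl
  obtain ⟨I, hI⟩ := (PrimeSpectrum.isClosed_iff_zeroLocus_ideal (e ⁻¹' F)).1 (hF.preimage e.continuous)
  have hmax : ∀ r : Spec L, r.asIdeal ≤ m.asIdeal := fun r =>
    (PrimeSpectrum.le_iff_specializes r m).2 (hemb.isInducing.specializes_iff.1 ((hspec r).trans (specializes_of_eq hm.symm)))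
  obtain ⟨a, haI, hap⟩ : ∃ a ∈ I, a ∉ pη.asIdeal := Set.not_subset.1 fun hsub => by
    refine hηF ?_
    rw [← hpη]
    exact hI.ge hsub
  obtain ⟨b, hbm, hbp⟩ : ∃ b ∈ m.asIdeal, b ∉ pη.asIdeal := Set.not_subset.1 fun hsub => by
    refine hne ?_
    exact hpη.symm.trans ((congrArg e (PrimeSpectrum.ext (le_antisymm (hmax pη) hsub))).trans hm)
  have hab : a * b ∉ pη.asIdeal := fun hmem => (pη.isPrime.mem_or_mem hmem).elim hap hbp
  obtain ⟨q₁, hq₁, habq₁, hq₁max⟩ := EGA43.exists_maximal_not_mem (L ⧸ pη.asIdeal)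
    (x := Ideal.Quotient.mk pη.asIdeal (a * b))
    fun hnil => hab (Ideal.Quotient.eq_zero_iff_mem.1 hnil.eq_zero)
  let q : Ideal L := q₁.comap (Ideal.Quotient.mk pη.asIdeal)
  have hq : q.IsPrime := Ideal.comap_isPrime _ q₁
  have hpq : pη.asIdeal ≤ q := fun z hz => by
    rw [Ideal.mem_comap, Ideal.Quotient.eq_zero_iff_mem.2 hz]; exact zero_mem _
  have habq : a * b ∉ q := habq₁
  have hqmax : ∀ J : Ideal L, J.IsPrime → q < J → a * b ∈ J := fun J hJ hlt => by
    have hc : (J.map (Ideal.Quotient.mk pη.asIdeal)).comap (Ideal.Quotient.mk pη.asIdeal) = J := by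
      rw [Ideal.comap_map_of_surjective _ Ideal.Quotient.mk_surjective, ← RingHom.ker_eq_comap_bot,
        Ideal.mk_ker, sup_eq_left.2 (hpq.trans hlt.le)]
    rw [← hc]
    refine hq₁max _ (Ideal.map_isPrime_of_surjective Ideal.Quotient.mk_surjective
      (by rw [Ideal.mk_ker]; exact hpq.trans hlt.le)) ?_
    refine lt_of_le_of_ne ?_ fun he => hlt.ne ((congrArg (Ideal.comap (Ideal.Quotient.mk pη.asIdeal)) he).trans hc)
    rw [← Ideal.map_comap_of_surjective _ Ideal.Quotient.mk_surjective q₁]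
    exact Ideal.map_mono hlt.le
  let q₀ : Spec L := ⟨q, hq⟩
  have hηq : η ⤳ e q₀ :=
    (specializes_of_eq hpη.symm).trans (((PrimeSpectrum.le_iff_specializes pη q₀).1 hpq).map e.continuous)
  refine ⟨e q₀, hηq, hspec q₀, fun he => ?_, fun hmem => ?_, fun w hw1 hw2 => ?_⟩
  · have : q₀ = m := hemb.injective (he.trans hm.symm)
    have h2 : q = m.asIdeal := congrArg PrimeSpectrum.asIdeal this
    exact habq (h2.symm ▸ Ideal.mul_mem_left _ a hbm)
  · exact habq (Ideal.mul_mem_right b q (hI.le hmem haI))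
  · obtain ⟨r, rfl⟩ := hrange w hw2
    have hle : q ≤ r.asIdeal :=
      (PrimeSpectrum.le_iff_specializes q₀ r).2 (hemb.isInducing.specializes_iff.1 hw1)
    rcases hle.lt_or_eq with hlt | heq
    · right
      by_contra hrm
      have hrm' : r.asIdeal < m.asIdeal := lt_of_le_of_ne (hmax r) fun he =>
        hrm ((congrArg e (PrimeSpectrum.ext he)).trans hm)
      have hG : EGA43.IsG (L ⧸ q) := ⟨Ideal.Quotient.mk q (a * b),
        fun h0 => habq (Ideal.Quotient.eq_zero_iff_mem.1 h0), fun J hJ hJ0 => by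
          have hqJ : q ≤ J.comap (Ideal.Quotient.mk q) := fun z hz => by
            rw [Ideal.mem_comap, Ideal.Quotient.eq_zero_iff_mem.2 hz]; exact zero_mem _
          refine hqmax _ (Ideal.comap_isPrime _ J) (lt_of_le_of_ne hqJ fun he => hJ0 ?_)
          exact (Ideal.map_comap_of_surjective _ Ideal.Quotient.mk_surjective J).symm.trans
            ((congrArg (Ideal.map (Ideal.Quotient.mk q)) he.symm).trans (Ideal.map_quotient_self q))⟩
      have hr' : (r.asIdeal.map (Ideal.Quotient.mk q)).IsPrime :=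
        Ideal.map_isPrime_of_surjective Ideal.Quotient.mk_surjective (by rw [Ideal.mk_ker]; exact hle)
      have hm' : (m.asIdeal.map (Ideal.Quotient.mk q)).IsPrime :=
        Ideal.map_isPrime_of_surjective Ideal.Quotient.mk_surjective
          (by rw [Ideal.mk_ker]; exact hle.trans hrm'.le)
      have hc : ∀ J : Ideal L, q ≤ J → (J.map (Ideal.Quotient.mk q)).comap (Ideal.Quotient.mk q) = J :=
        fun J hJ => by
          rw [Ideal.comap_map_of_surjective _ Ideal.Quotient.mk_surjective, ← RingHom.ker_eq_comap_bot,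
            Ideal.mk_ker, sup_eq_left.2 hJ]
      refine EGA43.not_lt_of_isG (L ⧸ q) hG (q := r.asIdeal.map (Ideal.Quotient.mk q))
        (r := m.asIdeal.map (Ideal.Quotient.mk q)) (fun h0 => ?_)
        (lt_of_le_of_ne (Ideal.map_mono hrm'.le) fun he => ?_)
      · have := hc _ hle
        rw [h0, ← RingHom.ker_eq_comap_bot, Ideal.mk_ker] at this
        exact hlt.ne this
      · have := hc _ (hle.trans hrm'.le)
        rw [← he, hc _ hle] at this
        exact hrm'.ne this
    · left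
      exact congrArg e (PrimeSpectrum.ext heq.symm)

theorem trdegHom_le_of_immediate [IsLocallyNoetherian Y] (f : X ⟶ Y) [LocallyOfFiniteType f] {x' x : X}
    (h : x' ⤳ x) (hne : f x' ≠ f x) (him : ∀ w, f x' ⤳ w → w ⤳ f x → w = f x' ∨ w = f x) :
    DimLib.trdegHom (f.residueFieldMap x).hom ≤ DimLib.trdegHom (f.residueFieldMap x').hom := by
  obtain ⟨V, hV, hxV, -⟩ := exists_isAffineOpen_mem_and_subset (x := f x) (U := ⊤) (Set.mem_univ _)
  obtain ⟨U, hU, hxU, e'⟩ := exists_isAffineOpen_mem_and_subset (x := x) (U := f ⁻¹ᵁ V) hxV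
  have e : U ≤ f ⁻¹ᵁ V := e'
  have hx'U : x' ∈ U := h.mem_open U.isOpen hxU
  algebraize [(f.appLE V U e).hom]
  haveI : Algebra.FiniteType Γ(Y, V) Γ(X, U) := f.finiteType_appLE hV hU e
  haveI : IsNoetherianRing Γ(Y, V) := IsLocallyNoetherian.component_noetherian ⟨V, hV⟩
  have hc : ∀ w (hw : w ∈ U), (hU.primeIdealOf ⟨w, hw⟩).asIdeal.comap (algebraMap Γ(Y, V) Γ(X, U)) =
      (hV.primeIdealOf ⟨f w, e hw⟩).asIdeal := fun w hw =>
    EGA43.FibDepth.comap_primeIdealOf f hV hU e hw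
  have hinj : ∀ a b : V, (hV.primeIdealOf a).asIdeal = (hV.primeIdealOf b).asIdeal → a.1 = b.1 :=
    fun a b he => by
      have h4 := congrArg hV.fromSpec (PrimeSpectrum.ext he)
      rwa [hV.fromSpec_primeIdealOf, hV.fromSpec_primeIdealOf] at h4
  rw [EGA43.FibDepth.trdegHom_residueFieldMap f hV hU e hxU,
    EGA43.FibDepth.trdegHom_residueFieldMap f hV hU e hx'U]
  refine trd_le_of_height_le_one _ _ ((primeIdealOf_le_iff hU _ _).2 h) ?_ ?_
  · rw [hc x' hx'U, hc x hxU]
    exact fun he => hne (hinj _ _ he)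
  · intro J hJ h1 h2
    have hw : hV.fromSpec ⟨J, hJ⟩ ∈ V := hV.range_fromSpec.le ⟨⟨J, hJ⟩, rfl⟩
    have hwJ : (hV.primeIdealOf ⟨_, hw⟩).asIdeal = J := congrArg PrimeSpectrum.asIdeal
      (hV.fromSpec.isOpenEmbedding.injective (hV.fromSpec_primeIdealOf ⟨_, hw⟩))
    rw [hc x' hx'U, ← hwJ] at h1
    rw [hc x hxU, ← hwJ] at h2
    rw [hc x' hx'U, hc x hxU, ← hwJ]
    exact (him _ ((primeIdealOf_le_iff hV _ _).1 h1) ((primeIdealOf_le_iff hV _ _).1 h2)).imp
      (fun he => congrArg (fun a : V => (hV.primeIdealOf a).asIdeal) (Subtype.ext he))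
      (fun he => congrArg (fun a : V => (hV.primeIdealOf a).asIdeal) (Subtype.ext he))

/-- **EGA IV 14.3.1**: if the generisations of `f x` lift at the maximal point `x` of its fibre, the
generic fibre near `x` has dimension at least that of the fibre at `x`. -/
theorem exists_generization_trdegHom_le [IsLocallyNoetherian Y] (f : X ⟶ Y) [LocallyOfFiniteType f]
    (x : X) (hmax : ∀ w, w ⤳ x → f w = f x → w = x)
    (hlift : ∀ y', y' ⤳ f x → ∃ x', x' ⤳ x ∧ f x' = y')
    {η : Y} (hηy : η ⤳ f x) :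
    ∃ z, z ⤳ x ∧ f z = η ∧
      DimLib.trdegHom (f.residueFieldMap x).hom ≤ DimLib.trdegHom (f.residueFieldMap z).hom := by
  by_cases hηx : η = f x
  · exact ⟨x, specializes_rfl, hηx.symm, le_rfl⟩
  rcases hd : DimLib.trdegHom (f.residueFieldMap x).hom with _ | n
  · obtain ⟨z, hz, hzη⟩ := hlift η hηy
    exact ⟨z, hz, hzη, Nat.zero_le _⟩
  by_contra hno
  push Not at hno
  haveI : IsLocallyNoetherian X := LocallyOfFiniteType.isLocallyNoetherian f
  obtain ⟨U, hU, hxU, -⟩ := exists_isAffineOpen_mem_and_subset (x := x) (U := ⊤) (Set.mem_univ _)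
  haveI : IsAffine U.toScheme := hU
  haveI : IsNoetherian U.toScheme := { }
  let F : Set U.toScheme :=
    U.ι ⁻¹' ({a : X | FlatMor.fibreDimAt f a ≤ (n : WithBot ℕ∞)}ᶜ ∩ f ⁻¹' closure {η})
  have hF : IsClosed F := ((FlatMorDim.isOpen_fibreDimAt_le f n).isClosed_compl.inter
    (isClosed_closure.preimage f.continuous)).preimage U.ι.continuous
  obtain ⟨S, hSfin, hScl, hSirr, hS⟩ :=
    TopologicalSpace.NoetherianSpace.exists_finite_set_isClosed_irreducible hF
  haveI : Nonempty U.toScheme := ⟨⟨x, hxU⟩⟩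
  choose! g hg using fun t ht => QuasiSober.sober (hSirr t ht) (hScl t ht)
  let G : Set X := {a | ∃ t ∈ S, a = U.ι (g t) ∧ a ⤳ x}
  have hGfin : G.Finite :=
    (hSfin.image fun t => U.ι (g t)).subset fun a ⟨t, ht, ha, _⟩ => ⟨t, ht, ha.symm⟩
  let W : Set Y := ⋃ a ∈ G, closure {f a}
  have hW : IsClosed W := hGfin.isClosed_biUnion fun a _ => isClosed_closure
  have hηW : η ∉ W := by
    intro hmem
    obtain ⟨a, ⟨t, ht, rfl, hax⟩, ha⟩ := Set.mem_iUnion₂.1 hmem
    have hgF : g t ∈ F := hS ▸ Set.mem_sUnion.2 ⟨t, ht, (hg t ht).mem⟩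
    have he : f (U.ι (g t)) = η :=
      ((specializes_iff_mem_closure.2 ha).antisymm (specializes_iff_mem_closure.2 hgF.2)).eq
    refine hgF.1 ((FlatMorDim.fibreDimAt_le_iff f _ n).2 fun z hz1 hz2 => ?_)
    exact Nat.lt_succ_iff.1 (hno z (hz2.trans hax) (hz1.trans he))
  obtain ⟨y', hηy', hy', hne, hy'W, him⟩ := exists_immediate_generization hηy hηx hW hηW
  obtain ⟨x', hx', rfl⟩ := hlift y' hy'
  have hx'U : x' ∈ U := hx'.mem_open U.isOpen hxU
  have hx'F : (⟨x', hx'U⟩ : U) ∈ F := by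
    refine ⟨fun hle => ?_, specializes_iff_mem_closure.1 hηy'⟩
    have h1 := FlatMorDim.trdegHom_le_of_fibreDimAt_le f x' n hle
    have h2 := trdegHom_le_of_immediate f hx' hne him
    omega
  obtain ⟨t, ht, hmem⟩ := Set.mem_sUnion.1 (hS.le hx'F)
  have hga : U.ι (g t) ⤳ x' := ((hg t ht).specializes hmem).map U.ι.continuous
  exact hy'W (Set.mem_iUnion₂.2 ⟨_, ⟨t, ht, rfl, hga.trans hx'⟩,
    specializes_iff_mem_closure.1 (hga.map f.continuous)⟩)

end Groth.Agent.EGA43.Chevalley
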