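import Groth.Agent.EGA43.Chevalley.Main
import Groth.Agent.EGA43.Chevalley.OpenDim
import Groth.Agent.EGA43.Chevalley.Specialize

/-!
# Chevalley's criteria
-/

set_option autoImplicit false
set_option backward.isDefEq.respectTransparency false
set_option linter.style.haveILetI false

universe u

open CategoryTheory CategoryTheory.Limits AlgebraicGeometry TopologicalSpace

namespace Groth.Agent.EGA43.Chevalley

open Groth.Agent FlatMorWeight

variable {X Y : Scheme.{u}} [IsLocallyNoetherian Y] (f : X ⟶ Y) [LocallyOfFiniteType f]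

/-- EGA IV 14.4.3: equidimensional over a geometrically unibranch point implies universally open. -/
theorem isUnivOpenAt_of_isEquidimAt (x : X) (hy : CAlg2.IsGeomUnibranch (Y.presheaf.stalk (f x)))
    (h : EGA43.IsEquidimAt f x) : EGA43.IsUnivOpenAt f x := by
  obtain ⟨e, U, hxU, hc, hd⟩ := (isEquidimAt_iff f x).1 h
  obtain ⟨ξ, hξ, W, hW, hgen⟩ := exists_isMaximalPt_specializes x
  have hξU : ξ ∈ U := hξ.mem_open U.isOpen hxU
  have hmax := isMaximalPt_of_isGenericPoint hW hgen
  refine isUnivOpenAt_of_trdegHom f hξ (hc ξ hξU hmax).1 hy fun x' h1 h2 _ => ?_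
  rw [hd ξ hξU fun w hw _ => hmax w hw]
  obtain ⟨z, hz, hzf, hzmax⟩ := exists_maximal_in_fibre f x'
  have hzU : z ∈ U := hz.mem_open U.isOpen (h2.mem_open U.isOpen hxU)
  rw [← hd z hzU fun w hw he => hzmax w hw (he.trans hzf)]
  exact trdegHom_le_of_specializes f hz hzf

/-- EGA IV 14.4.1: open at a maximal point of a fibre over a geometrically unibranch point implies
universally open there. -/
theorem isUnivOpenAt_of_lift (x : X) (hmax : ∀ w, w ⤳ x → f w = f x → w = x)
    (hy : CAlg2.IsGeomUnibranch (Y.presheaf.stalk (f x)))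
    (hlift : ∀ y', y' ⤳ f x → ∃ x', x' ⤳ x ∧ f x' = y') : EGA43.IsUnivOpenAt f x := by
  obtain ⟨η, hη, W, hW, hgen⟩ := exists_isMaximalPt_specializes (f x)
  have hηm := isMaximalPt_of_isGenericPoint hW hgen
  obtain ⟨z, hz, hzη, hd⟩ := exists_generization_trdegHom_le f x hmax hlift hη
  refine isUnivOpenAt_of_trdegHom f hz (hzη.symm ▸ hηm) hy fun x' _ h2 h3 => ?_
  rw [hmax x' h2 h3]
  exact hd

theorem isUnivOpenAt_of_isOpenAt (x : X) (hmax : ∀ w, w ⤳ x → f w = f x → w = x)
    (hy : CAlg2.IsGeomUnibranch (Y.presheaf.stalk (f x))) (h : EGA43.IsOpenAt f.base x) :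
    EGA43.IsUnivOpenAt f x :=
  isUnivOpenAt_of_lift f x hmax hy fun _ hy' => H8ProCons.exists_generization_of_isOpenAt f h hy'

/-- EGA IV 14.4.2: over a geometrically unibranch base, open implies universally open. -/
theorem universallyOpen_of_isOpenMap (hY : ∀ y : Y, CAlg2.IsGeomUnibranch (Y.presheaf.stalk y))
    (h : IsOpenMap f.base) : UniversallyOpen f := by
  refine universallyOpen_of_forall f fun x => ?_
  obtain ⟨z, hz, hzf, hzmax⟩ := exists_maximal_in_fibre f x
  exact isUnivOpenAt_of_specializes f hz hzf (isUnivOpenAt_of_isOpenAt f z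
    (fun w hw he => hzmax w hw (he.trans hzf)) (hY _) fun U hU => h.image_mem_nhds hU)

end Groth.Agent.EGA43.Chevalley
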