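import Groth.Agent.EGA43.Chevalley.Cut
import Groth.Agent.EGA43.Chevalley.Crit

/-!
# Quasi-finite multisections of schemes
-/

set_option autoImplicit false
set_option backward.isDefEq.respectTransparency false
set_option linter.style.haveILetI false

universe u

open CategoryTheory CategoryTheory.Limits AlgebraicGeometry TopologicalSpace

namespace Groth.Agent.EGA43.Chevalley

open Groth.Agent FlatMorWeight TensorProduct

attribute [local instance] Algebra.TensorProduct.rightAlgebra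

/-- All transcendence degrees zero means quasi-finite. -/
theorem quasiFinite_of_trd_eq_zero {A R : Type u} [CommRing A] [CommRing R] [Algebra A R]
    [Algebra.FiniteType A R] (h : ∀ Q : PrimeSpectrum R, FibDepth.trd A Q = 0) :
    Algebra.QuasiFinite A R := by
  refine Algebra.QuasiFinite.iff_finite_comap_preimage_singleton.2 fun p => ?_
  let C := p.asIdeal.Fiber R
  haveI : Algebra.FiniteType p.asIdeal.ResidueField C := FibDepth.finiteType_fibre (A := A) (R := R) p.asIdeal C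
  haveI : IsNoetherianRing C := Algebra.FiniteType.isNoetherianRing p.asIdeal.ResidueField C
  refine ((Ideal.finite_minimalPrimes_of_isNoetherianRing C ⊥).image
    fun J => J.comap (algebraMap R C)).preimage (f := PrimeSpectrum.asIdeal)
    (fun a _ b _ hab => PrimeSpectrum.ext hab) |>.subset fun Q hQ => ?_
  have hQp : p.asIdeal = Q.asIdeal.comap (algebraMap A R) := (congrArg PrimeSpectrum.asIdeal hQ).symm
  obtain ⟨Q₁, hQ₁⟩ := FibDepth.exists_prime_over (A := A) (p := p.asIdeal) C Q hQp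
  obtain ⟨P, hP, hPle⟩ := Ideal.exists_minimalPrimes_le (bot_le : ⊥ ≤ Q₁.asIdeal)
  haveI := hP.isPrime
  let Q₀ := PrimeSpectrum.comap (algebraMap R C) ⟨P, hP.isPrime⟩
  have hle : Q₀.asIdeal ≤ Q.asIdeal := hQ₁ ▸ Ideal.comap_mono hPle
  have hp : Q.asIdeal.comap (algebraMap A R) = Q₀.asIdeal.comap (algebraMap A R) :=
    hQp.symm.trans (FibDepth.comap_algebraMap_eq (R := R) p.asIdeal (⟨P, hP.isPrime⟩ : PrimeSpectrum C))
  have : Q₀ = Q := by_contra fun hne => by
    have := trd_lt (A := A) hle hne hp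
    rw [h Q₀] at this
    omega
  exact ⟨P, hP, congrArg PrimeSpectrum.asIdeal this⟩

variable {X Y : Scheme.{u}}

/-- Through a point closed in its fibre, on a component with no bigger special fibre, passes a
quasi-finite multisection. -/
theorem exists_section [IsLocallyNoetherian Y] (f : X ⟶ Y) [LocallyOfFiniteType f] {x ξ : X}
    (hξ : ξ ⤳ x) (hcl : ∀ x', f x' = f x → x ⤳ x' → x' = x)
    (hd : ∀ x', ξ ⤳ x' → x' ⤳ x → f x' = f x →
      DimLib.trdegHom (f.residueFieldMap x').hom ≤ DimLib.trdegHom (f.residueFieldMap ξ).hom) :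
    ∃ (T : Scheme.{u}) (i : T ⟶ X) (_ : IrreducibleSpace ↥T), IsImmersion i ∧ IsReduced T ∧
      x ∈ Set.range i.base ∧ LocallyOfFiniteType (i ≫ f) ∧ LocallyQuasiFinite (i ≫ f) ∧
      QuasiCompact (i ≫ f) ∧ f (i (genericPoint ↥T)) = f ξ := by
  haveI : LocallyOfFiniteType (f.fiberToSpecResidueField (f x)) :=
    inferInstanceAs (LocallyOfFiniteType (Limits.pullback.snd f (Y.fromSpecResidueField (f x))))
  have hx0 : DimLib.trdegHom (f.residueFieldMap x).hom = 0 := by
    rw [← f.fiberι_asFiber x, ← EGA43.FibDepth.ptDim_fiber f]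
    refine (DimLib.ptDim_eq_zero_iff (k := Y.residueField (f x)) (f.fiberToSpecResidueField (f x))
      (f.asFiber x)).2 (isClosed_of_closure_subset fun b hb => ?_)
    have hb' : f.asFiber x ⤳ b := specializes_iff_mem_closure.2 hb
    refine (f.fiberι (f x)).isEmbedding.injective ?_
    rw [f.fiberι_asFiber]
    refine hcl _ (apply_fiberι f _ b) ?_
    have h1 := hb'.map (f.fiberι (f x)).continuous
    rwa [f.fiberι_asFiber] at h1
  obtain ⟨V, hV, hxV, -⟩ := exists_isAffineOpen_mem_and_subset (x := f x) (U := ⊤) (Set.mem_univ _)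
  obtain ⟨U, hU, hxU, e'⟩ := exists_isAffineOpen_mem_and_subset (x := x) (U := f ⁻¹ᵁ V) hxV
  have e : U ≤ f ⁻¹ᵁ V := e'
  have hξU : ξ ∈ U := hξ.mem_open U.isOpen hxU
  algebraize [(f.appLE V U e).hom]
  haveI : Algebra.FiniteType Γ(Y, V) Γ(X, U) := f.finiteType_appLE hV hU e
  haveI : IsNoetherianRing Γ(Y, V) := IsLocallyNoetherian.component_noetherian ⟨V, hV⟩
  haveI : IsNoetherianRing Γ(X, U) := Algebra.FiniteType.isNoetherianRing Γ(Y, V) Γ(X, U)
  let pt (a : X) (ha : a ∈ U) := hU.primeIdealOf ⟨a, ha⟩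
  have hc : ∀ w (hw : w ∈ U), (pt w hw).asIdeal.comap (algebraMap Γ(Y, V) Γ(X, U)) =
      (hV.primeIdealOf ⟨f w, e hw⟩).asIdeal := fun w hw =>
    EGA43.FibDepth.comap_primeIdealOf f hV hU e hw
  let J := (pt ξ hξU).asIdeal
  let R₀ := Γ(X, U) ⧸ J
  let π : Γ(X, U) →ₐ[Γ(Y, V)] R₀ := Ideal.Quotient.mkₐ Γ(Y, V) J
  have hπ : π.toRingHom.SurjectiveOnStalks :=
    RingHom.surjectiveOnStalks_of_surjective Ideal.Quotient.mk_surjective
  obtain ⟨q₀, hq₀⟩ : pt x hxU ∈ Set.range (PrimeSpectrum.comap (Ideal.Quotient.mk J)) := by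
    rw [range_comap_of_surjective _ _ Ideal.Quotient.mk_surjective, Ideal.mk_ker]
    exact (primeIdealOf_le_iff hU _ _).2 hξ
  let η₀ : PrimeSpectrum R₀ := ⟨⊥, Ideal.isPrime_bot⟩
  have hη₀ : PrimeSpectrum.comap π.toRingHom η₀ = pt ξ hξU := PrimeSpectrum.ext (by
    show (⊥ : Ideal R₀).comap (Ideal.Quotient.mk J) = J
    rw [← RingHom.ker_eq_comap_bot, Ideal.mk_ker])
  have hq₀' : PrimeSpectrum.comap π.toRingHom q₀ = pt x hxU := hq₀
  obtain ⟨P, hPq, hPη, hP0, hzero⟩ := exists_cut (A := Γ(Y, V)) q₀ (by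
      rw [← FibDepth.trd_comap_of_surjectiveOnStalks π hπ q₀, hq₀',
        ← EGA43.FibDepth.trdegHom_residueFieldMap f hV hU e hxU, hx0]) fun Q hQ hQc => by
      rw [← FibDepth.trd_comap_of_surjectiveOnStalks π hπ Q,
        ← FibDepth.trd_comap_of_surjectiveOnStalks π hπ, hη₀]
      let Q' := PrimeSpectrum.comap π.toRingHom Q
      have hw : hU.fromSpec Q' ∈ U := hU.range_fromSpec.le ⟨Q', rfl⟩
      have hQ' : pt _ hw = Q' :=
        hU.fromSpec.isOpenEmbedding.injective (hU.fromSpec_primeIdealOf ⟨_, hw⟩)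
      rw [show PrimeSpectrum.comap π.toRingHom Q = pt _ hw from hQ'.symm,
        ← EGA43.FibDepth.trdegHom_residueFieldMap f hV hU e hw,
        ← EGA43.FibDepth.trdegHom_residueFieldMap f hV hU e hξU]
      refine hd _ ((primeIdealOf_le_iff hU _ _).1 (show J ≤ (pt _ hw).asIdeal from ?_))
        ((primeIdealOf_le_iff hU ⟨_, hw⟩ ⟨x, hxU⟩).1
          (show (pt _ hw).asIdeal ≤ (pt x hxU).asIdeal from ?_)) ?_
      · rw [hQ']
        intro z hz
        show Ideal.Quotient.mk J z ∈ Q.asIdeal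
        rw [Ideal.Quotient.eq_zero_iff_mem.2 hz]
        exact zero_mem _
      · rw [hQ', ← hq₀']; exact Ideal.comap_mono hQ
      · have h3 : (hV.primeIdealOf ⟨f (hU.fromSpec Q'), e hw⟩).asIdeal = (hV.primeIdealOf ⟨f x, e hxU⟩).asIdeal := by
          rw [← hc _ hw, ← hc x hxU, hQ', ← hq₀']
          exact hQc
        have h4 := congrArg hV.fromSpec (PrimeSpectrum.ext h3)
        rwa [hV.fromSpec_primeIdealOf, hV.fromSpec_primeIdealOf] at h4
  -- shrink `V(P)` to a quasi-finite piece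
  let R₁ := R₀ ⧸ P.asIdeal
  let ρ : R₀ →ₐ[Γ(Y, V)] R₁ := Ideal.Quotient.mkₐ Γ(Y, V) P.asIdeal
  have hρ : ρ.toRingHom.SurjectiveOnStalks :=
    RingHom.surjectiveOnStalks_of_surjective Ideal.Quotient.mk_surjective
  obtain ⟨q₁, hq₁⟩ : q₀ ∈ Set.range (PrimeSpectrum.comap (Ideal.Quotient.mk P.asIdeal)) := by
    rw [range_comap_of_surjective _ _ Ideal.Quotient.mk_surjective, Ideal.mk_ker]
    exact hPq
  have hq₁' : PrimeSpectrum.comap ρ.toRingHom q₁ = q₀ := hq₁
  have hq₁O : q₁ ∈ {q : PrimeSpectrum R₁ | ∀ q' : PrimeSpectrum R₁, q'.asIdeal ≤ q.asIdeal →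
      q'.asIdeal.comap (algebraMap Γ(Y, V) R₁) = q.asIdeal.comap (algebraMap Γ(Y, V) R₁) →
        FibDepth.trd Γ(Y, V) q' ≤ 0} := by
    intro q' hle hcq
    rw [← FibDepth.trd_comap_of_surjectiveOnStalks ρ hρ q']
    refine (hzero _ ?_ (hq₁' ▸ Ideal.comap_mono hle) ?_).le
    · intro z hz
      show Ideal.Quotient.mk P.asIdeal z ∈ q'.asIdeal
      rw [Ideal.Quotient.eq_zero_iff_mem.2 hz]
      exact zero_mem _
    · rw [← hq₁']; exact hcq
  obtain ⟨_, ⟨_, ⟨r, rfl⟩, rfl⟩, hr, hrO⟩ := PrimeSpectrum.isBasis_basic_opens.exists_subset_of_mem_open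
    hq₁O (FibDepth.isOpen_trd_le (A := Γ(Y, V)) (R := R₁) 0)
  let R₂ := Localization.Away r
  haveI : Algebra.FiniteType R₁ R₂ := IsLocalization.finiteType_of_monoid_fg (Submonoid.powers r) R₂
  haveI : Algebra.FiniteType Γ(Y, V) R₂ := Algebra.FiniteType.trans (S := R₁) inferInstance ‹_›
  have hr0 : r ≠ 0 := fun h => hr (by rw [h]; exact zero_mem _)
  haveI : IsDomain R₂ :=
    IsLocalization.isDomain_localization (powers_le_nonZeroDivisors_of_noZeroDivisors hr0)
  let l := IsScalarTower.toAlgHom Γ(Y, V) R₁ R₂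
  have hl : l.toRingHom.SurjectiveOnStalks :=
    RingHom.surjectiveOnStalks_of_isLocalization (M := Submonoid.powers r) _
  haveI : Algebra.QuasiFinite Γ(Y, V) R₂ := quasiFinite_of_trd_eq_zero fun Q => by
    rw [← FibDepth.trd_comap_of_surjectiveOnStalks l hl Q]
    have hmem : r ∉ (PrimeSpectrum.comap l.toRingHom Q).asIdeal :=
      (PrimeSpectrum.localization_away_comap_range R₂ r).le ⟨Q, rfl⟩
    exact Nat.le_zero.1 (hrO hmem _ le_rfl rfl)
  let s₁ : Γ(X, U) ⟶ CommRingCat.of R₀ := CommRingCat.ofHom π.toRingHom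
  let s₂ : CommRingCat.of R₀ ⟶ CommRingCat.of R₁ := CommRingCat.ofHom ρ.toRingHom
  let s₃ : CommRingCat.of R₁ ⟶ CommRingCat.of R₂ := CommRingCat.ofHom (algebraMap R₁ R₂)
  haveI : IsClosedImmersion (Spec.map s₁) := IsClosedImmersion.spec_of_surjective _ Ideal.Quotient.mk_surjective
  haveI : IsClosedImmersion (Spec.map s₂) := IsClosedImmersion.spec_of_surjective _ Ideal.Quotient.mk_surjective
  haveI : IsOpenImmersion (Spec.map s₃) := IsOpenImmersion.of_isLocalization r
  let j : Spec (.of R₂) ⟶ Spec Γ(X, U) := Spec.map s₃ ≫ Spec.map s₂ ≫ Spec.map s₁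
  let i : Spec (.of R₂) ⟶ X := j ≫ hU.fromSpec
  haveI hirr : IrreducibleSpace (Spec (CommRingCat.of R₂)) :=
    inferInstanceAs (IrreducibleSpace (PrimeSpectrum R₂))
  haveI : IsImmersion (Spec.map s₃ ≫ Spec.map s₂ ≫ Spec.map s₁) := inferInstance
  haveI : IsImmersion i := inferInstanceAs (IsImmersion (j ≫ hU.fromSpec))
  have hfac : i ≫ f = Spec.map (CommRingCat.ofHom (algebraMap Γ(Y, V) R₂)) ≫ hV.fromSpec := by
    simp only [i, j, Category.assoc]
    rw [← IsAffineOpen.SpecMap_appLE_fromSpec f hV hU e, ← Category.assoc, ← Category.assoc,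
      ← Category.assoc, ← Spec.map_comp, ← Spec.map_comp, ← Spec.map_comp]
    rfl
  haveI : LocallyQuasiFinite (Spec.map (CommRingCat.ofHom (algebraMap Γ(Y, V) R₂))) :=
    (HasRingHomProperty.Spec_iff (P := @LocallyQuasiFinite)).2 (RingHom.quasiFinite_algebraMap.2 inferInstance)
  haveI : LocallyOfFiniteType (Spec.map (CommRingCat.ofHom (algebraMap Γ(Y, V) R₂))) :=
    (HasRingHomProperty.Spec_iff (P := @LocallyOfFiniteType)).2 (RingHom.finiteType_algebraMap.2 inferInstance)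
  haveI : IsNoetherianRing R₂ := Algebra.FiniteType.isNoetherianRing Γ(Y, V) R₂
  refine ⟨Spec (.of R₂), i, hirr, inferInstance, inferInstance, ?_, ?_, ?_, inferInstance, ?_⟩
  · obtain ⟨q₂, hq₂⟩ := (PrimeSpectrum.localization_away_comap_range R₂ r).ge hr
    refine ⟨q₂, ?_⟩
    show hU.fromSpec (PrimeSpectrum.comap π.toRingHom (PrimeSpectrum.comap ρ.toRingHom
      (PrimeSpectrum.comap (algebraMap R₁ R₂) q₂))) = x
    rw [hq₂, hq₁', hq₀', hU.fromSpec_primeIdealOf]
  · rw [hfac]; infer_instance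
  · rw [hfac]; infer_instance
  · have hgen : genericPoint (Spec (CommRingCat.of R₂)) = (⟨⊥, Ideal.isPrime_bot⟩ : PrimeSpectrum R₂) := by
      refine IsGenericPoint.eq (genericPoint_spec _) (isGenericPoint_def.2 (Set.eq_univ_of_forall fun w => ?_))
      exact specializes_iff_mem_closure.1
        ((PrimeSpectrum.le_iff_specializes (⟨⊥, Ideal.isPrime_bot⟩ : PrimeSpectrum R₂) w).1
          (show (⊥ : Ideal R₂) ≤ w.asIdeal from bot_le))
    rw [hgen, ← Scheme.Hom.comp_apply, hfac]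
    refine Eq.trans ?_ (hV.fromSpec_primeIdealOf ⟨f ξ, e hξU⟩)
    refine congrArg hV.fromSpec (PrimeSpectrum.ext ?_)
    show (⊥ : Ideal R₂).comap (algebraMap Γ(Y, V) R₂) = _
    rw [← hc ξ hξU, IsScalarTower.algebraMap_eq Γ(Y, V) R₁ R₂, ← Ideal.comap_comap,
      ← RingHom.ker_eq_comap_bot (algebraMap R₁ R₂), (RingHom.injective_iff_ker_eq_bot _).1
        (IsLocalization.injective R₂ (powers_le_nonZeroDivisors_of_noZeroDivisors hr0)),
      IsScalarTower.algebraMap_eq Γ(Y, V) R₀ R₁, ← Ideal.comap_comap,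
      ← RingHom.ker_eq_comap_bot (algebraMap R₀ R₁)]
    show (RingHom.ker (Ideal.Quotient.mk P.asIdeal)).comap (algebraMap Γ(Y, V) R₀) = _
    rw [Ideal.mk_ker, hPη, IsScalarTower.algebraMap_eq Γ(Y, V) Γ(X, U) R₀, ← Ideal.comap_comap,
      ← RingHom.ker_eq_comap_bot (algebraMap Γ(X, U) R₀)]
    show (RingHom.ker (Ideal.Quotient.mk J)).comap _ = _
    rw [Ideal.mk_ker]

end Groth.Agent.EGA43.Chevalley
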