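import Groth.Agent.FlatMorDim.LocalDim
import Groth.Agent.DimLib.Maximal
import Groth.Agent.FlatMorWeight.UnibranchOpen
import Groth.Prelude.Def_EGA43

/-!
# Equidimensional morphisms in terms of transcendence degrees
-/

set_option autoImplicit false
set_option backward.isDefEq.respectTransparency false
set_option linter.style.haveILetI false

universe u

open CategoryTheory CategoryTheory.Limits AlgebraicGeometry TopologicalSpace

namespace Groth.Agent.EGA43.Chevalley

open Groth.Agent FlatMorWeight

variable {X Y : Scheme.{u}}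

theorem trdegHom_residueFieldMap_comp {U : Scheme.{u}} (i : U ⟶ X) [IsPreimmersion i] (f : X ⟶ Y) (w : U) :
    DimLib.trdegHom ((i ≫ f).residueFieldMap w).hom = DimLib.trdegHom (f.residueFieldMap (i w)).hom := by
  haveI := DimLib.isIso_residueFieldMap_of_isPreimmersion i w
  rw [Scheme.residueFieldMap_comp, CommRingCat.hom_comp]
  exact DimLib.trdegHom_comp_ringEquiv _ (asIso (i.residueFieldMap w)).commRingCatIsoToRingEquiv

theorem apply_fiberι (f : X ⟶ Y) (y : Y) (z : f.fiber y) : f (f.fiberι y z) = y := by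
  have h : f.fiberι y z ∈ Set.range (f.fiberι y) := ⟨z, rfl⟩
  rwa [f.range_fiberι] at h

/-- The components of the fibre correspond to the points maximal in their fibre. -/
theorem forall_components_fiber_iff (f : X ⟶ Y) [LocallyOfFiniteType f] (y : Y)
    (P : WithBot ℕ∞ → Prop) :
    (∀ Z ∈ irreducibleComponents (↥(f.fiber y) : Type u), P (topologicalKrullDim Z)) ↔
      ∀ x : X, f x = y → (∀ w, w ⤳ x → f w = y → w = x) →
        P (DimLib.trdegHom (f.residueFieldMap x).hom : WithBot ℕ∞) := by
  haveI : LocallyOfFiniteType (f.fiberToSpecResidueField y) :=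
    inferInstanceAs (LocallyOfFiniteType (Limits.pullback.snd f (Y.fromSpecResidueField y)))
  rw [DimLib.forall_components_iff (k := Y.residueField y) (f.fiberToSpecResidueField y)]
  constructor
  · intro h x hx hmax
    obtain ⟨a, rfl⟩ : x ∈ Set.range (f.fiberι y) := by rw [f.range_fiberι]; exact hx
    rw [← EGA43.FibDepth.ptDim_fiber f]
    exact h a fun b hb => ((f.fiberι y).isEmbedding.injective
      (hmax _ (hb.map (f.fiberι y).continuous) (apply_fiberι f y b))).symm
  · intro h a hmax
    rw [EGA43.FibDepth.ptDim_fiber f]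
    refine h _ (apply_fiberι f y a) fun w hw hwy => ?_
    obtain ⟨b, rfl⟩ : w ∈ Set.range (f.fiberι y) := by rw [f.range_fiberι]; exact hwy
    rw [hmax b ((f.fiberι y).isEmbedding.isInducing.specializes_iff.1 hw)]

theorem isMaximalPt_coe_iff {U : X.Opens} (a : U) :
    IsMaximalPt (X := U.toScheme) a ↔ IsMaximalPt a.1 := by
  constructor
  · intro h z hz
    exact congrArg Subtype.val (h ⟨z, hz.mem_open U.isOpen a.2⟩ (Topology.IsInducing.subtypeVal.specializes_iff.1 hz))
  · intro h z hz
    exact Subtype.ext (h _ (hz.map U.ι.continuous))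

/-- Equidimensionality in terms of points. -/
theorem isEquidimAt_iff (f : X ⟶ Y) [LocallyOfFiniteType f] (x : X) :
    EGA43.IsEquidimAt f x ↔ ∃ (e : ℕ) (U : X.Opens), x ∈ U ∧
      (∀ ξ ∈ U, IsMaximalPt ξ → IsMaximalPt (f ξ) ∧ f ξ ⤳ f x) ∧
      (∀ x' ∈ U, (∀ w, w ⤳ x' → f w = f x' → w = x') →
        DimLib.trdegHom (f.residueFieldMap x').hom = e) := by
  refine exists_congr fun e => exists_congr fun U => and_congr_right fun _ => and_congr ?_ ?_
  · constructor
    · intro h ξ hξU hξ
      have hmem : closure {(⟨ξ, hξU⟩ : U)} ∈ irreducibleComponents (↥U : Type u) :=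
        DimLib.closure_mem_components (X := U.toScheme) (η := ⟨ξ, hξU⟩)
          fun z hz => ((isMaximalPt_coe_iff ⟨ξ, hξU⟩).2 hξ z hz).symm
      obtain ⟨W, hW, hxW, hcl⟩ := h _ hmem
      have hgen : IsGenericPoint (f ξ) W := by
        refine ((isGenericPoint_closure (x := (⟨ξ, hξU⟩ : U))).image (U.ι ≫ f).continuous).def.trans hcl
      exact ⟨isMaximalPt_of_isGenericPoint hW hgen, hgen.specializes hxW⟩
    · intro h Z hZ
      obtain ⟨η, hη, hmax⟩ := DimLib.exists_genericPoint_of_mem_components (X := U.toScheme) hZ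
      obtain ⟨h1, h2⟩ := h η.1 η.2 ((isMaximalPt_coe_iff η).1 fun z hz => (hmax z hz).symm)
      refine ⟨closure {f η.1}, DimLib.closure_mem_components fun z hz => (h1 z hz).symm,
        specializes_iff_mem_closure.1 h2, ?_⟩
      exact (hη.image (U.ι ≫ f).continuous).def.symm
  · constructor
    · intro h x' hx' hmax
      have := (forall_components_fiber_iff (U.ι ≫ f) _ (fun d => d = (e : WithBot ℕ∞))).1
        (h ⟨x', hx'⟩) ⟨x', hx'⟩ rfl fun w hw hwy => Subtype.ext (hmax _ (hw.map U.ι.continuous) hwy)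
      rw [trdegHom_residueFieldMap_comp] at this
      exact_mod_cast this
    · intro h x'
      refine (forall_components_fiber_iff (U.ι ≫ f) _ (fun d => d = (e : WithBot ℕ∞))).2 fun a ha hmax => ?_
      rw [trdegHom_residueFieldMap_comp]
      refine congrArg (fun n : ℕ => (n : WithBot ℕ∞)) (h (U.ι a) a.2 fun w hw hwf => ?_)
      exact congrArg Subtype.val (hmax ⟨w, hw.mem_open U.isOpen a.2⟩
        (Topology.IsInducing.subtypeVal.specializes_iff.1 hw) (hwf.trans ha))

/-- Every point is a specialisation of a point maximal in its fibre. -/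
theorem exists_maximal_in_fibre (f : X ⟶ Y) (x : X) :
    ∃ z, z ⤳ x ∧ f z = f x ∧ ∀ w, w ⤳ z → f w = f x → w = z := by
  obtain ⟨z, hz, W, hW, hgen⟩ := exists_isMaximalPt_specializes (f.asFiber x)
  have hmax := isMaximalPt_of_isGenericPoint hW hgen
  refine ⟨f.fiberι _ z, by simpa using hz.map (f.fiberι (f x)).continuous, apply_fiberι f _ z, ?_⟩
  intro w hw hwy
  obtain ⟨b, rfl⟩ : w ∈ Set.range (f.fiberι (f x)) := by rw [f.range_fiberι]; exact hwy
  rw [hmax b ((f.fiberι (f x)).isEmbedding.isInducing.specializes_iff.1 hw)]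

/-- Transcendence degrees drop under specialisation in a fibre. -/
theorem trdegHom_le_of_specializes (f : X ⟶ Y) [LocallyOfFiniteType f] {z x : X} (h : z ⤳ x)
    (he : f z = f x) :
    DimLib.trdegHom (f.residueFieldMap x).hom ≤ DimLib.trdegHom (f.residueFieldMap z).hom := by
  haveI : LocallyOfFiniteType (f.fiberToSpecResidueField (f x)) :=
    inferInstanceAs (LocallyOfFiniteType (Limits.pullback.snd f (Y.fromSpecResidueField (f x))))
  obtain ⟨a, rfl⟩ : z ∈ Set.range (f.fiberι (f x)) := by rw [f.range_fiberι]; exact he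
  have h1 := DimLib.ptDim_le_of_specializes (k := Y.residueField (f x)) (f.fiberToSpecResidueField (f x))
    (x := a) (y := f.asFiber x)
    ((f.fiberι (f x)).isEmbedding.isInducing.specializes_iff.1 (by rw [f.fiberι_asFiber]; exact h))
  rwa [EGA43.FibDepth.ptDim_fiber f, EGA43.FibDepth.ptDim_fiber f, f.fiberι_asFiber] at h1

end Groth.Agent.EGA43.Chevalley
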