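import Groth.Agent.EGA43.UnibranchOpen.Scheme
import Groth.Agent.EGA43.Chevalley.Fibre
import Groth.Agent.EGA43.Chevalley.Tfae
import Groth.Agent.H8Top.SchemeComponents

/-!
# Equidimensionality on some component at each point gives universal openness
-/

set_option autoImplicit false
set_option backward.isDefEq.respectTransparency false
set_option linter.style.haveILetI false

universe u

open CategoryTheory CategoryTheory.Limits AlgebraicGeometry TopologicalSpace

namespace Groth.Agent.EGA43.Chevalley

open Groth.Agent FlatMorWeight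

variable {X S : Scheme.{u}}

theorem trdegHom_residueFieldMap_postcomp {T : Scheme.{u}} (g : X ⟶ T) (i : T ⟶ S) [IsPreimmersion i] (x : X) :
    DimLib.trdegHom ((g ≫ i).residueFieldMap x).hom = DimLib.trdegHom (g.residueFieldMap x).hom := by
  haveI := DimLib.isIso_residueFieldMap_of_isPreimmersion i (g x)
  rw [Scheme.residueFieldMap_comp, CommRingCat.hom_comp]
  exact EGA43.FibDepth.trdegHom_ringEquiv_comp (asIso (i.residueFieldMap (g x))).commRingCatIsoToRingEquiv _

/-- Universal openness is tested on morphisms covering the source. -/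
theorem universallyOpen_of_forall_exists (f : X ⟶ S)
    (h : ∀ x : X, ∃ (U : Scheme.{u}) (j : U ⟶ X), x ∈ Set.range j.base ∧ UniversallyOpen (j ≫ f)) :
    UniversallyOpen f := by
  refine ⟨fun {X' S'} g' g f' hc => ?_⟩
  show IsOpenMap f'.base
  intro O hO
  refine isOpen_iff_mem_nhds.2 ?_
  rintro _ ⟨x', hx', rfl⟩
  obtain ⟨U, j, ⟨u, hu⟩, huo⟩ := h (g' x')
  obtain ⟨u', hu', hu''⟩ := Scheme.Pullback.exists_preimage_pullback (f := j) (g := g') u x' hu
  let j' := pullback.snd j g'
  haveI : UniversallyOpen (j' ≫ f') :=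
    MorphismProperty.of_isPullback (P := @UniversallyOpen)
      ((IsPullback.of_hasPullback j g').flip.paste_horiz hc).flip huo
  refine Filter.mem_of_superset (((j' ≫ f').isOpenMap _ (hO.preimage j'.continuous)).mem_nhds
    ⟨u', show j' u' ∈ O from hu''.symm ▸ hx', (Scheme.Hom.comp_apply _ _ _).trans (congrArg f' hu'')⟩) ?_
  rintro _ ⟨v, hv, rfl⟩
  exact ⟨j' v, hv, rfl⟩

theorem isOpen_component (hS : ∀ s : S, CAlg2.IsGeomUnibranch (S.presheaf.stalk s))
    (hfin : (irreducibleComponents (S : Type u)).Finite) {W : Set S} (hW : W ∈ irreducibleComponents (S : Type u)) :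
    IsOpen W := by
  have hpr : ∀ s : S, (nilradical (S.presheaf.stalk s)).IsPrime := fun s => by
    haveI := (hS s).1.1
    exact (Ideal.Quotient.isDomain_iff_prime _).1 (hS s).1.1
  have hd := (H8Top.pairwiseDisjoint_iff S).2 hpr
  have hW' : W = (⋃ V ∈ irreducibleComponents (S : Type u) \ {W}, V)ᶜ := by
    ext z
    constructor
    · intro hz hmem
      obtain ⟨V, hV, hzV⟩ := Set.mem_iUnion₂.1 hmem
      exact hV.2 (hd.elim hV.1 hW (Set.not_disjoint_iff.2 ⟨z, hzV, hz⟩))
    · intro hz
      by_contra hzW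
      exact hz (Set.mem_biUnion ⟨irreducibleComponent_mem_irreducibleComponents z,
        fun h => hzW (Set.mem_singleton_iff.1 h ▸ mem_irreducibleComponent)⟩ mem_irreducibleComponent)
  rw [hW']
  exact ((hfin.subset Set.sdiff_subset).isClosed_biUnion
    fun V hV => isClosed_of_mem_irreducibleComponents V hV.1).isOpen_compl

/-- The main step, on an irreducible piece. -/
theorem universallyOpen_of_isEquidim_piece (hS : ∀ s : S, CAlg2.IsGeomUnibranch (S.presheaf.stalk s))
    (hfin : (irreducibleComponents (S : Type u)).Finite) {U : Scheme.{u}} [IrreducibleSpace U]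
    (g : U ⟶ S) [LocallyOfFiniteType g] {W : Set S} (hW : W ∈ irreducibleComponents (S : Type u))
    (hdense : closure (Set.range g.base) = W) (e : ℕ)
    (he : ∀ z, (∀ w, w ⤳ z → g w = g z → w = z) → DimLib.trdegHom (g.residueFieldMap z).hom = e) :
    UniversallyOpen g := by
  let S₀ : S.Opens := ⟨W, isOpen_component hS hfin hW⟩
  have hrange : Set.range g.base ⊆ Set.range S₀.ι.base := by
    rw [Scheme.Opens.range_ι]
    exact subset_closure.trans hdense.le
  let g' := IsOpenImmersion.lift S₀.ι g hrange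
  have hfac : g' ≫ S₀.ι = g := IsOpenImmersion.lift_fac _ _ _
  haveI : LocallyOfFiniteType (g' ≫ S₀.ι) := by rw [hfac]; infer_instance
  haveI : LocallyOfFiniteType g' := locallyOfFiniteType_of_comp g' S₀.ι
  haveI : IrreducibleSpace ↥S₀.toScheme := Subtype.irreducibleSpace (show IsIrreducible W from hW.1)
  haveI : IsDominant g' := ⟨by
    intro z
    rw [S₀.ι.isEmbedding.isInducing.closure_eq_preimage_closure_image, Set.mem_preimage, ← Set.range_comp]
    show S₀.ι z ∈ closure (Set.range (g' ≫ S₀.ι).base)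
    rw [hfac, hdense]
    exact z.2⟩
  have hS₀ : ∀ z : S₀.toScheme, CAlg2.IsGeomUnibranch (S₀.toScheme.presheaf.stalk z) := fun z =>
    EGA43.Unibranch.isGeomUnibranch_of_ringEquiv (asIso (S₀.ι.stalkMap z)).commRingCatIsoToRingEquiv (hS _)
  have hval : ∀ a b : U, g' a = g' b ↔ g a = g b := fun a b => by
    rw [← hfac, Scheme.Hom.comp_apply, Scheme.Hom.comp_apply]
    exact ⟨congrArg S₀.ι, fun h => S₀.ι.isOpenEmbedding.injective h⟩
  have he' : ∀ z, (∀ w, w ⤳ z → g' w = g' z → w = z) → DimLib.trdegHom (g'.residueFieldMap z).hom = e := fun z hz => by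
    rw [← trdegHom_residueFieldMap_postcomp g' S₀.ι z]
    have h1 : DimLib.trdegHom ((g' ≫ S₀.ι).residueFieldMap z).hom = DimLib.trdegHom (g.residueFieldMap z).hom :=
      congrArg (fun φ : U ⟶ S => DimLib.trdegHom (φ.residueFieldMap z).hom) hfac
    rw [h1]
    exact he z fun w h h' => hz w h ((hval w z).2 h')
  have hdim : topologicalKrullDim ↥(g'.fiber (g'.base (genericPoint U))) =
      (DimLib.trdegHom (g'.residueFieldMap (genericPoint U)).hom : WithBot ℕ∞) := by
    rw [← topologicalKrullDim_closure_inter_fibre g' (genericPoint U), (genericPoint_spec U).def]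
    refine (IsHomeomorph.topologicalKrullDim_eq (g'.fiberHomeo _) (g'.fiberHomeo _).isHomeomorph).trans ?_
    exact IsHomeomorph.topologicalKrullDim_eq (Homeomorph.setCongr (Set.univ_inter _).symm)
      (Homeomorph.setCongr (Set.univ_inter _).symm).isHomeomorph
  haveI : UniversallyOpen g' := by
    refine UnibranchOpen.universallyOpen_of_fibreDim_const hS₀ g' fun x => ?_
    rw [hdim, he' (genericPoint U) fun w hw _ => (hw.antisymm (genericPoint_specializes w)).eq]
    obtain ⟨z, hz, hzx, hmax⟩ := exists_maximal_in_fibre g' x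
    refine le_antisymm ((FlatMorDim.fibreDimAt_le_iff g' x e).2 fun w hwx hw => ?_) ?_
    · obtain ⟨v, hv, hvw, hvmax⟩ := exists_maximal_in_fibre g' w
      rw [← he' v fun a ha ha' => hvmax a ha (ha'.trans hvw)]
      exact trdegHom_le_of_specializes g' hv hvw
    · rw [← he' z fun a ha ha' => hmax a ha (ha'.trans hzx)]
      obtain ⟨z', hz', hz'x, -, hd⟩ := exists_maximal_fibreDimAt g' x
      rw [hd]
      exact_mod_cast (FlatMorDim.fibreDimAt_le_iff g' x _).1 hd.le z hzx hz
  rw [← hfac]
  infer_instance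

/-- Condition (T) gives universal openness over a geometrically unibranch base with finitely many components. -/
theorem universallyOpen_of_conditionT (hS : ∀ s : S, CAlg2.IsGeomUnibranch (S.presheaf.stalk s))
    (hfin : (irreducibleComponents (S : Type u)).Finite) (f : X ⟶ S) [LocallyOfFiniteType f]
    (hT : ∀ x : X, ∃ W : Closeds X, (W : Set X) ∈ irreducibleComponents (X : Type u) ∧
      ∃ w : ↥((Scheme.IdealSheafData.vanishingIdeal W).subscheme),
        (Scheme.IdealSheafData.vanishingIdeal W).subschemeι.base w = x ∧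
        EGA43.IsEquidimAt ((Scheme.IdealSheafData.vanishingIdeal W).subschemeι ≫ f) w) :
    UniversallyOpen f := by
  refine universallyOpen_of_forall_exists f fun x => ?_
  obtain ⟨W, hW, w, hwx, e, U, hwU, hc, hd⟩ := hT x
  let ι := (Scheme.IdealSheafData.vanishingIdeal W).subschemeι
  have hr : Set.range ι.base = (W : Set X) := by
    rw [Scheme.IdealSheafData.range_subschemeι, Scheme.IdealSheafData.coe_support_vanishingIdeal]
  haveI : IrreducibleSpace ↥((Scheme.IdealSheafData.vanishingIdeal W).subscheme) := by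
    haveI : Nonempty ↥((Scheme.IdealSheafData.vanishingIdeal W).subscheme) := ⟨w⟩
    haveI := Subtype.irreducibleSpace (show IsIrreducible (W : Set X) from hW.1)
    exact ((ι.isEmbedding.toHomeomorph.trans (Homeomorph.setCongr hr)).isOpenEmbedding).irreducibleSpace
  haveI : Nonempty ↥U.toScheme := ⟨⟨w, hwU⟩⟩
  haveI : IrreducibleSpace ↥U.toScheme := U.ι.isOpenEmbedding.irreducibleSpace
  haveI : LocallyOfFiniteType (U.ι ≫ ι ≫ f) := inferInstance
  haveI : IrreducibleSpace ↥U := ‹IrreducibleSpace ↥U.toScheme›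
  obtain ⟨W₀, hW₀, -, hcl⟩ := hc Set.univ (by rw [irreducibleComponents_eq_singleton]; rfl)
  refine ⟨U.toScheme, U.ι ≫ ι, ⟨⟨w, hwU⟩, hwx⟩, ?_⟩
  rw [Category.assoc]
  refine universallyOpen_of_isEquidim_piece hS hfin (U.ι ≫ ι ≫ f) hW₀ (by rw [← Set.image_univ]; exact hcl) e
    fun z hz => ?_
  have h1 := (forall_components_fiber_iff (U.ι ≫ ι ≫ f) _ (fun d => d = (e : WithBot ℕ∞))).1 (hd z) z rfl hz
  exact_mod_cast h1

end Groth.Agent.EGA43.Chevalley
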