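import Groth.Agent.EGA43.Chevalley.GenDim
import Groth.Agent.EGA43.Chevalley.ConditionT
import Groth.Agent.EGA43.Chevalley.OpenDim

/-!
# Universally open, or equidimensional, morphisms satisfy condition (T)
-/

set_option autoImplicit false
set_option backward.isDefEq.respectTransparency false
set_option linter.style.haveILetI false

universe u

open CategoryTheory CategoryTheory.Limits AlgebraicGeometry TopologicalSpace

namespace Groth.Agent.EGA43.Chevalley

open Groth.Agent FlatMorWeight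

variable {X S : Scheme.{u}}

theorem universallyOpen_of_comp_mono {P Q R : Scheme.{u}} (φ : P ⟶ Q) (i : Q ⟶ R) [Mono i]
    (h : UniversallyOpen (φ ≫ i)) : UniversallyOpen φ := by
  have hc : IsPullback φ (𝟙 P) i (φ ≫ i) :=
    ⟨⟨by simp⟩, ⟨PullbackCone.IsLimit.mk _ (fun s => s.snd)
      (fun s => by rw [← cancel_mono i]; simpa using s.condition.symm)
      (fun s => Category.comp_id _) (fun s m _ h2 => by simpa using h2)⟩⟩
  exact MorphismProperty.of_isPullback (P := @UniversallyOpen) hc.flip h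

/-- Along a universally open morphism, generizations lift without loss of dimension in the fibre. -/
theorem exists_generization_trdegHom_le_of_universallyOpen (f : X ⟶ S) [LocallyOfFiniteType f]
    [UniversallyOpen f] (z : X) {η : S} (hη : η ⤳ f z) :
    ∃ z', z' ⤳ z ∧ f z' = η ∧
      DimLib.trdegHom (f.residueFieldMap z).hom ≤ DimLib.trdegHom (f.residueFieldMap z').hom := by
  obtain ⟨V, hV, hzV, -⟩ := exists_isAffineOpen_mem_and_subset (x := f z) (U := ⊤) (Set.mem_univ _)
  obtain ⟨U, hU, hzU, e'⟩ := exists_isAffineOpen_mem_and_subset (x := z) (U := f ⁻¹ᵁ V) hzV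
  have e : U ≤ f ⁻¹ᵁ V := e'
  have ho : UniversallyOpen (Spec.map (f.appLE V U e)) := by
    refine universallyOpen_of_comp_mono _ hV.fromSpec ?_
    rw [IsAffineOpen.SpecMap_appLE_fromSpec f hV hU]
    infer_instance
  have hηV : η ∈ V := hη.mem_open V.isOpen hzV
  algebraize [(f.appLE V U e).hom]
  haveI : Algebra.FiniteType Γ(S, V) Γ(X, U) := f.finiteType_appLE hV hU e
  have hc : ∀ w (hw : w ∈ U), (hU.primeIdealOf ⟨w, hw⟩).asIdeal.comap (algebraMap Γ(S, V) Γ(X, U)) =
      (hV.primeIdealOf ⟨f w, e hw⟩).asIdeal := fun w hw =>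
    EGA43.FibDepth.comap_primeIdealOf f hV hU e hw
  obtain ⟨P, hPQ, hPp, hle⟩ := exists_generization_trd_le (A := Γ(S, V)) (B := Γ(X, U)) ho
    (hV.primeIdealOf ⟨η, hηV⟩).asIdeal (hU.primeIdealOf ⟨z, hzU⟩)
    (by rw [hc z hzU]; exact (primeIdealOf_le_iff hV _ _).2 hη)
  have hwU : hU.fromSpec P ∈ U := hU.range_fromSpec.le ⟨P, rfl⟩
  have hwP : hU.primeIdealOf ⟨_, hwU⟩ = P :=
    hU.fromSpec.isOpenEmbedding.injective (hU.fromSpec_primeIdealOf ⟨_, hwU⟩)
  refine ⟨hU.fromSpec P, (primeIdealOf_le_iff hU ⟨_, hwU⟩ ⟨z, hzU⟩).1 (by rw [hwP]; exact hPQ), ?_, ?_⟩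
  · have h1 := hc _ hwU
    rw [hwP, hPp] at h1
    have h2 := congrArg hV.fromSpec (PrimeSpectrum.ext h1.symm)
    rwa [hV.fromSpec_primeIdealOf, hV.fromSpec_primeIdealOf] at h2
  · rw [EGA43.FibDepth.trdegHom_residueFieldMap f hV hU e hzU,
      EGA43.FibDepth.trdegHom_residueFieldMap f hV hU e hwU, hwP]
    exact hle

/-- A component is equidimensional at a point near which its fibres are no bigger than the generic one. -/
theorem exists_component_isEquidimAt (f : X ⟶ S) [LocallyOfFiniteType f] {x ξ : X} (hξ : IsMaximalPt ξ)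
    (hξx : ξ ⤳ x) (hfξ : IsMaximalPt (f ξ)) (U₀ : X.Opens) (hxU : x ∈ U₀)
    (hle : ∀ x' ∈ U₀, ξ ⤳ x' → DimLib.trdegHom (f.residueFieldMap x').hom ≤
      DimLib.trdegHom (f.residueFieldMap ξ).hom) :
    ∃ W : Closeds X, (W : Set X) ∈ irreducibleComponents (X : Type u) ∧
      ∃ w : ↥((Scheme.IdealSheafData.vanishingIdeal W).subscheme),
        (Scheme.IdealSheafData.vanishingIdeal W).subschemeι.base w = x ∧
        EGA43.IsEquidimAt ((Scheme.IdealSheafData.vanishingIdeal W).subschemeι ≫ f) w := by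
  let W : Closeds X := ⟨closure {ξ}, isClosed_closure⟩
  let ι := (Scheme.IdealSheafData.vanishingIdeal W).subschemeι
  have hr : Set.range ι.base = closure {ξ} := by
    rw [Scheme.IdealSheafData.range_subschemeι, Scheme.IdealSheafData.coe_support_vanishingIdeal]; rfl
  obtain ⟨w, hw⟩ : x ∈ Set.range ι.base := hr.ge hξx.mem_closure
  obtain ⟨g, hg⟩ : ξ ∈ Set.range ι.base := hr.ge (subset_closure rfl)
  have hgen : ∀ a, g ⤳ a := fun a => by
    refine ι.isEmbedding.isInducing.specializes_iff.1 ?_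
    rw [hg]
    exact specializes_iff_mem_closure.2 (hr.le ⟨a, rfl⟩)
  have hd : DimLib.trdegHom ((ι ≫ f).residueFieldMap g).hom = DimLib.trdegHom (f.residueFieldMap ξ).hom := by
    rw [trdegHom_residueFieldMap_comp, hg]
  refine ⟨W, DimLib.closure_mem_components fun y hy => (hξ y hy).symm, w, hw, (isEquidimAt_iff _ w).2
    ⟨DimLib.trdegHom (f.residueFieldMap ξ).hom, ι ⁻¹ᵁ U₀, show ι w ∈ U₀ from hw.symm ▸ hxU, ?_, ?_⟩⟩
  · intro a _ ha
    obtain rfl : g = a := ha g (hgen a)
    refine ⟨?_, (hgen w).map (ι ≫ f).continuous⟩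
    rw [Scheme.Hom.comp_apply, hg]
    exact hfξ
  · intro x' hx' hmax
    refine le_antisymm ?_ ?_
    · rw [trdegHom_residueFieldMap_comp]
      refine hle _ hx' ?_
      rw [← hg]
      exact (hgen x').map ι.continuous
    · rw [← hd]
      exact trdegHom_le_fibreDimAt (ι ≫ f) (hgen x') _ (fibreDimAt_eq_of_maximal (ι ≫ f) x' hmax).le

theorem conditionT_of_universallyOpen (f : X ⟶ S) [LocallyOfFiniteType f] [UniversallyOpen f] (x : X) :
    ∃ W : Closeds X, (W : Set X) ∈ irreducibleComponents (X : Type u) ∧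
      ∃ w : ↥((Scheme.IdealSheafData.vanishingIdeal W).subscheme),
        (Scheme.IdealSheafData.vanishingIdeal W).subschemeι.base w = x ∧
        EGA43.IsEquidimAt ((Scheme.IdealSheafData.vanishingIdeal W).subschemeι ≫ f) w := by
  obtain ⟨z, hzx, hzf, -, hd⟩ := exists_maximal_fibreDimAt f x
  obtain ⟨η, hη, Wη, hWη, hgenη⟩ := exists_isMaximalPt_specializes (f z)
  have hηmax := isMaximalPt_of_isGenericPoint hWη hgenη
  obtain ⟨z', hz'z, hz'η, hle⟩ := exists_generization_trdegHom_le_of_universallyOpen f z hη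
  obtain ⟨ξ, hξ, Wξ, hWξ, hgenξ⟩ := exists_isMaximalPt_specializes z'
  have hξη : f ξ = η := hηmax _ ((hξ.map f.continuous).trans (specializes_of_eq hz'η))
  let e := DimLib.trdegHom (f.residueFieldMap z).hom
  have hξe : e ≤ DimLib.trdegHom (f.residueFieldMap ξ).hom :=
    hle.trans (trdegHom_le_of_specializes f hξ (hξη.trans hz'η.symm))
  refine exists_component_isEquidimAt f (isMaximalPt_of_isGenericPoint hWξ hgenξ)
    (hξ.trans (hz'z.trans hzx)) (hξη ▸ hηmax) ⟨_, FlatMorDim.isOpen_fibreDimAt_le f e⟩ hd.le fun x' hx' _ => ?_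
  exact le_trans (by exact_mod_cast (le_fibreDimAt f x').trans hx') hξe

theorem conditionT_of_isEquidimAt (f : X ⟶ S) [LocallyOfFiniteType f] (x : X) (h : EGA43.IsEquidimAt f x) :
    ∃ W : Closeds X, (W : Set X) ∈ irreducibleComponents (X : Type u) ∧
      ∃ w : ↥((Scheme.IdealSheafData.vanishingIdeal W).subscheme),
        (Scheme.IdealSheafData.vanishingIdeal W).subschemeι.base w = x ∧
        EGA43.IsEquidimAt ((Scheme.IdealSheafData.vanishingIdeal W).subschemeι ≫ f) w := by
  obtain ⟨e, U, hxU, hc, hd⟩ := (isEquidimAt_iff f x).1 h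
  obtain ⟨ξ, hξx, Wξ, hWξ, hgenξ⟩ := exists_isMaximalPt_specializes x
  have hξ := isMaximalPt_of_isGenericPoint hWξ hgenξ
  have hξU : ξ ∈ U := hξx.mem_open U.isOpen hxU
  refine exists_component_isEquidimAt f hξ hξx (hc ξ hξU hξ).1 U hxU fun x' hx' _ => ?_
  rw [hd ξ hξU fun w hw _ => hξ w hw]
  obtain ⟨z, hz, hzf, hmax⟩ := exists_maximal_in_fibre f x'
  rw [← hd z (hz.mem_open U.isOpen hx') fun w hw hwf => hmax w hw (hwf.trans hzf)]
  exact trdegHom_le_of_specializes f hz hzf

end Groth.Agent.EGA43.Chevalley
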