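import Groth.Agent.EGA43.FibDepth.FibreDim
import Mathlib.RingTheory.Ideal.KrullsHeightTheorem

/-!
# Cutting a family down to a quasi-finite one (EGA IV 14.3.? / 14.5.4)
-/

set_option autoImplicit false
set_option backward.isDefEq.respectTransparency false
set_option linter.style.haveILetI false

universe u

open TensorProduct Function

namespace Groth.Agent.EGA43.Chevalley

open Groth.Agent FibDepth

attribute [local instance] Algebra.TensorProduct.rightAlgebra

variable {A R : Type u} [CommRing A] [CommRing R] [Algebra A R] [Algebra.FiniteType A R]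

/-- Transcendence degrees drop strictly along strict inclusions in a fibre. -/
theorem trd_lt {Q Q' : PrimeSpectrum R} (hle : Q.asIdeal ≤ Q'.asIdeal) (hne : Q ≠ Q')
    (hp : Q'.asIdeal.comap (algebraMap A R) = Q.asIdeal.comap (algebraMap A R)) :
    trd A Q' < trd A Q := by
  let p := Q.asIdeal.comap (algebraMap A R)
  let C := p.Fiber R
  haveI : Algebra.FiniteType p.ResidueField C := finiteType_fibre (A := A) (R := R) p C
  obtain ⟨P, hP⟩ := exists_prime_over (A := A) (p := p) C Q rfl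
  obtain ⟨P', hP'⟩ := exists_prime_over (A := A) (p := p) C Q' hp.symm
  have hle' : P.asIdeal ≤ P'.asIdeal := le_of_comap_le (R := R) p (by rw [hP, hP']; exact hle)
  haveI : IsNoetherianRing C := Algebra.FiniteType.isNoetherianRing p.ResidueField C
  let D := C ⧸ P.asIdeal
  let J : Ideal D := P'.asIdeal.map (Ideal.Quotient.mk P.asIdeal)
  haveI : J.IsPrime :=
    Ideal.map_isPrime_of_surjective Ideal.Quotient.mk_surjective (by rwa [Ideal.mk_ker])
  have hJ : J ≠ ⊥ := fun h => hne (by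
    have : P' = P := PrimeSpectrum.ext (le_antisymm
      ((Ideal.map_eq_bot_iff_le_ker _).1 h |>.trans Ideal.mk_ker.le) hle')
    rw [← hP, ← hP', this])
  have hsum := DimLib.height_add_ringKrullDim_quotient (k := p.ResidueField) J
  rw [ringKrullDim_eq_of_ringEquiv (DoubleQuot.quotQuotEquivQuotOfLE hle'),
    ringKrullDim_quotient_eq_trd (R := R) p P, ringKrullDim_quotient_eq_trd (R := R) p P', hP, hP'] at hsum
  have hh : J.height ≠ 0 := fun h => hJ (by
    have h1 : J ∈ minimalPrimes D := Ideal.height_eq_zero_iff.1 h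
    rwa [IsDomain.minimalPrimes_eq_singleton_bot, Set.mem_singleton_iff] at h1)
  generalize J.height = a at hsum hh
  induction a using ENat.recTopCoe with
  | top =>
    rw [← WithBot.coe_natCast (trd A Q'), ← WithBot.coe_natCast (trd A Q), ← WithBot.coe_add, WithBot.coe_inj, top_add] at hsum
    exact absurd hsum.symm (ENat.coe_ne_top _)
  | coe a =>
    norm_cast at hsum hh
    omega

/-- A chain of length `trd Q - trd P` between `Q` and `P` in a fibre. -/
theorem add_trd_le_height [IsDomain R] {Q P : PrimeSpectrum R} (hle : Q.asIdeal ≤ P.asIdeal)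
    (hp : P.asIdeal.comap (algebraMap A R) = Q.asIdeal.comap (algebraMap A R)) (hQ : Q.asIdeal ≠ ⊥) :
    ((trd A Q - trd A P + 1 : ℕ) : ℕ∞) ≤ P.asIdeal.height := by
  let p := Q.asIdeal.comap (algebraMap A R)
  let C := p.Fiber R
  haveI : Algebra.FiniteType p.ResidueField C := finiteType_fibre (A := A) (R := R) p C
  obtain ⟨Q₁, hQ₁⟩ := exists_prime_over (A := A) (p := p) C Q rfl
  obtain ⟨P₁, hP₁⟩ := exists_prime_over (A := A) (p := p) C P hp.symm
  have hle' : Q₁.asIdeal ≤ P₁.asIdeal := le_of_comap_le (R := R) p (by rw [hQ₁, hP₁]; exact hle)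
  let D := C ⧸ Q₁.asIdeal
  let J : Ideal D := P₁.asIdeal.map (Ideal.Quotient.mk Q₁.asIdeal)
  haveI : J.IsPrime :=
    Ideal.map_isPrime_of_surjective Ideal.Quotient.mk_surjective (by rwa [Ideal.mk_ker])
  have hsum := DimLib.height_add_ringKrullDim_quotient (k := p.ResidueField) J
  rw [ringKrullDim_eq_of_ringEquiv (DoubleQuot.quotQuotEquivQuotOfLE hle'),
    ringKrullDim_quotient_eq_trd (R := R) p Q₁, ringKrullDim_quotient_eq_trd (R := R) p P₁, hQ₁, hP₁] at hsum
  let n := trd A Q - trd A P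
  have hn : (n : ℕ∞) ≤ Order.height (⟨J, inferInstance⟩ : PrimeSpectrum D) := by
    rw [← PrimeSpectrum.height_eq_orderHeight]
    show (n : ℕ∞) ≤ J.height
    generalize J.height = a at hsum
    induction a using ENat.recTopCoe with
    | top => exact le_top
    | coe a =>
      norm_cast at hsum ⊢
      omega
  obtain ⟨l, hl, hln⟩ := Order.exists_series_of_le_height _ hn
  let φ : C →+* D := Ideal.Quotient.mk Q₁.asIdeal
  let m : PrimeSpectrum D → PrimeSpectrum R := fun z =>
    PrimeSpectrum.comap (algebraMap R C) (PrimeSpectrum.comap φ z)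
  have hm : StrictMono m := fun a b hab => by
    refine lt_of_le_of_ne (Ideal.comap_mono (Ideal.comap_mono hab.le)) fun h => hab.ne ?_
    have h1 : PrimeSpectrum.comap φ a = PrimeSpectrum.comap φ b := PrimeSpectrum.ext (le_antisymm
      (le_of_comap_le (R := R) p (le_of_eq (congrArg PrimeSpectrum.asIdeal h)))
      (le_of_comap_le (R := R) p (le_of_eq (congrArg PrimeSpectrum.asIdeal h).symm)))
    exact PrimeSpectrum.comap_injective_of_surjective φ Ideal.Quotient.mk_surjective h1
  let bot : PrimeSpectrum R := ⟨⊥, Ideal.isPrime_bot⟩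
  have hQle : Q ≤ m (l.head) := by
    show Q.asIdeal ≤ ((l.head.asIdeal).comap φ).comap (algebraMap R C)
    refine (congrArg PrimeSpectrum.asIdeal hQ₁).ge.trans (Ideal.comap_mono fun z hz => ?_)
    rw [Ideal.mem_comap, Ideal.Quotient.eq_zero_iff_mem.2 hz]
    exact zero_mem _
  let s := (l.map m hm).cons bot (by
    show bot < (l.map m hm).head
    rw [LTSeries.head_map]
    exact lt_of_lt_of_le (lt_of_le_of_ne (show bot ≤ Q from (bot_le : (⊥ : Ideal R) ≤ Q.asIdeal)) fun h => hQ (congrArg PrimeSpectrum.asIdeal h).symm) hQle)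
  rw [PrimeSpectrum.height_eq_orderHeight P]
  refine le_trans (le_of_eq ?_) (Order.length_le_height (p := s) ?_)
  · simp [s, hln, n]
  · refine le_of_eq ?_
    rw [RelSeries.last_cons, LTSeries.last_map, hl]
    refine PrimeSpectrum.ext ?_
    show (J.comap φ).comap (algebraMap R C) = P.asIdeal
    rw [Ideal.comap_map_of_surjective _ Ideal.Quotient.mk_surjective, ← RingHom.ker_eq_comap_bot,
      Ideal.mk_ker, sup_eq_left.2 hle', ← hP₁]
    rfl

/-- Prime avoidance cut: `m` equations at `q` cut the fibre dimension at `q` down by `m`. -/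
theorem exists_finset_cut (q : PrimeSpectrum R) (e : ℕ) (hq : trd A q = 0)
    (hd : ∀ Q : PrimeSpectrum R, Q.asIdeal ≤ q.asIdeal →
      Q.asIdeal.comap (algebraMap A R) = q.asIdeal.comap (algebraMap A R) → trd A Q ≤ e) (m : ℕ) :
    ∃ s : Finset R, s.card ≤ m ∧ (↑s : Set R) ⊆ q.asIdeal ∧ ∀ Q : PrimeSpectrum R,
      Q.asIdeal ≤ q.asIdeal → Q.asIdeal.comap (algebraMap A R) = q.asIdeal.comap (algebraMap A R) →
        (↑s : Set R) ⊆ Q.asIdeal → trd A Q ≤ e - m := by
  classical
  induction m with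
  | zero => exact ⟨∅, by simp, by simp, fun Q h1 h2 _ => by simpa using hd Q h1 h2⟩
  | succ m ih =>
    obtain ⟨s, hs, hsq, hsd⟩ := ih
    let p := q.asIdeal.comap (algebraMap A R)
    let C := p.Fiber R
    haveI : Algebra.FiniteType p.ResidueField C := finiteType_fibre (A := A) (R := R) p C
    haveI : IsNoetherianRing C := Algebra.FiniteType.isNoetherianRing p.ResidueField C
    let I : Ideal C := Ideal.span (algebraMap R C '' ↑s)
    let 𝒮 : Set (Ideal R) := (fun P => P.comap (algebraMap R C)) '' I.minimalPrimes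
    have hfin : 𝒮.Finite := (Ideal.finite_minimalPrimes_of_isNoetherianRing C I).image _
    let T := hfin.toFinset.filter fun J => ¬ q.asIdeal ≤ J
    obtain ⟨h, hhq, hhT⟩ : ∃ h ∈ q.asIdeal, ∀ J ∈ T, h ∉ J := by
      by_contra hno
      push Not at hno
      have hsub : (q.asIdeal : Set R) ⊆ ⋃ J ∈ (↑T : Set (Ideal R)), (J : Set R) := fun a ha => by
        obtain ⟨J, hJ, haJ⟩ := hno a ha
        exact Set.mem_iUnion₂.2 ⟨J, hJ, haJ⟩
      obtain ⟨J, hJ, hle⟩ := (Ideal.subset_union_prime (s := T) (f := fun J => J) ⊥ ⊥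
        (fun J hJ _ _ => by
          obtain ⟨P, hP, rfl⟩ := hfin.mem_toFinset.1 (Finset.mem_filter.1 hJ).1
          exact Ideal.comap_isPrime (H := hP.isPrime) _ P)).1 hsub
      exact (Finset.mem_filter.1 hJ).2 hle
    refine ⟨insert h s, (Finset.card_insert_le h s).trans (by omega), ?_, fun Q hQ hQp hsQ => ?_⟩
    · rw [Finset.coe_insert]
      exact Set.insert_subset hhq hsq
    rw [Finset.coe_insert, Set.insert_subset_iff] at hsQ
    obtain ⟨Q₁, hQ₁⟩ := exists_prime_over (A := A) (p := p) C Q hQp.symm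
    have hI : I ≤ Q₁.asIdeal := Ideal.span_le.2 fun _ ⟨a, ha, hb⟩ => by
      subst hb
      have h1 : a ∈ Q.asIdeal := hsQ.2 ha
      rw [← hQ₁] at h1
      exact h1
    obtain ⟨P, hP, hPle⟩ := Ideal.exists_minimalPrimes_le hI
    haveI := hP.isPrime
    let Q₀ := PrimeSpectrum.comap (algebraMap R C) ⟨P, hP.isPrime⟩
    have hQ₀le : Q₀.asIdeal ≤ Q.asIdeal := hQ₁ ▸ Ideal.comap_mono hPle
    have hQ₀p : Q₀.asIdeal.comap (algebraMap A R) = p :=
      (comap_algebraMap_eq (R := R) p (⟨P, hP.isPrime⟩ : PrimeSpectrum C)).symm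
    have hQ₀s : (↑s : Set R) ⊆ Q₀.asIdeal := fun a ha =>
      hP.le (Ideal.subset_span ⟨a, ha, rfl⟩)
    by_cases hqQ₀ : q.asIdeal ≤ Q₀.asIdeal
    · have : Q = q := PrimeSpectrum.ext (le_antisymm hQ (hqQ₀.trans hQ₀le))
      rw [this, hq]; exact Nat.zero_le _
    · have hne : Q₀ ≠ Q := fun he => hhT Q₀.asIdeal
        (Finset.mem_filter.2 ⟨hfin.mem_toFinset.2 ⟨P, hP, rfl⟩, hqQ₀⟩) (he ▸ hsQ.1)
      have h1 := trd_lt (A := A) hQ₀le hne (hQp.trans hQ₀p.symm)
      have h2 := hsd Q₀ (hQ₀le.trans hQ) hQ₀p hQ₀s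
      omega

/-- **Quasi-finite multisections**: through a closed point of a fibre of dimension not bigger than
the generic one passes an irreducible closed subset, finite there over the base and dominating it. -/
theorem exists_cut [IsDomain R] [IsNoetherianRing R] (q : PrimeSpectrum R) (hq : trd A q = 0)
    (hd : ∀ Q : PrimeSpectrum R, Q.asIdeal ≤ q.asIdeal →
      Q.asIdeal.comap (algebraMap A R) = q.asIdeal.comap (algebraMap A R) →
        trd A Q ≤ trd A (⟨⊥, Ideal.isPrime_bot⟩ : PrimeSpectrum R)) :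
    ∃ P : PrimeSpectrum R, P.asIdeal ≤ q.asIdeal ∧
      P.asIdeal.comap (algebraMap A R) = (⊥ : Ideal R).comap (algebraMap A R) ∧ trd A P = 0 ∧
      ∀ Q : PrimeSpectrum R, P.asIdeal ≤ Q.asIdeal → Q.asIdeal ≤ q.asIdeal →
        Q.asIdeal.comap (algebraMap A R) = q.asIdeal.comap (algebraMap A R) → trd A Q = 0 := by
  let η : PrimeSpectrum R := ⟨⊥, Ideal.isPrime_bot⟩
  let e := trd A η
  obtain ⟨s, hs, hsq, hsd⟩ := exists_finset_cut (A := A) q e hq hd e
  obtain ⟨P, hP, hPq⟩ := Ideal.exists_minimalPrimes_le (Ideal.span_le.2 hsq)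
  let P' : PrimeSpectrum R := ⟨P, hP.isPrime⟩
  haveI := hP.isPrime
  have hzero : ∀ Q : PrimeSpectrum R, P ≤ Q.asIdeal → Q.asIdeal ≤ q.asIdeal →
      Q.asIdeal.comap (algebraMap A R) = q.asIdeal.comap (algebraMap A R) → trd A Q = 0 :=
    fun Q h1 h2 h3 => by
      have := hsd Q h2 h3 ((Ideal.subset_span.trans hP.le).trans h1)
      omega
  -- semicontinuity on `R ⧸ P`
  let R₁ := R ⧸ P
  let π : R →ₐ[A] R₁ := Ideal.Quotient.mkₐ A P
  have hπ : π.toRingHom.SurjectiveOnStalks :=
    RingHom.surjectiveOnStalks_of_surjective Ideal.Quotient.mk_surjective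
  let q₁ : PrimeSpectrum R₁ := ⟨q.asIdeal.map π,
    Ideal.map_isPrime_of_surjective Ideal.Quotient.mk_surjective (by
      show RingHom.ker (Ideal.Quotient.mk P) ≤ _
      rwa [Ideal.mk_ker])⟩
  have hq₁ : q₁.asIdeal.comap π.toRingHom = q.asIdeal := by
    show (q.asIdeal.map (Ideal.Quotient.mk P)).comap (Ideal.Quotient.mk P) = _
    rw [Ideal.comap_map_of_surjective _ Ideal.Quotient.mk_surjective, ← RingHom.ker_eq_comap_bot,
      Ideal.mk_ker, sup_eq_left.2 hPq]
  have hq₁O : q₁ ∈ {q : PrimeSpectrum R₁ | ∀ q' : PrimeSpectrum R₁, q'.asIdeal ≤ q.asIdeal →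
      q'.asIdeal.comap (algebraMap A R₁) = q.asIdeal.comap (algebraMap A R₁) → trd A q' ≤ 0} := by
    intro q' hle hc
    rw [← trd_comap_of_surjectiveOnStalks π hπ q']
    refine (hzero _ ?_ (hq₁ ▸ Ideal.comap_mono hle) ?_).le
    · intro z hz
      show Ideal.Quotient.mk P z ∈ q'.asIdeal
      rw [Ideal.Quotient.eq_zero_iff_mem.2 hz]
      exact zero_mem _
    · rw [← hq₁]; exact hc
  let η₁ : PrimeSpectrum R₁ := ⟨⊥, Ideal.isPrime_bot⟩
  have hη₁ : η₁ ⤳ q₁ := (PrimeSpectrum.le_iff_specializes η₁ q₁).1 (show (⊥ : Ideal R₁) ≤ q₁.asIdeal from bot_le)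
  have hP0 : trd A P' = 0 := by
    have h := hη₁.mem_open (FibDepth.isOpen_trd_le (A := A) (R := R₁) 0) hq₁O η₁ le_rfl rfl
    rw [← trd_comap_of_surjectiveOnStalks π hπ η₁] at h
    have : PrimeSpectrum.comap π.toRingHom η₁ = P' := PrimeSpectrum.ext (by
      show (⊥ : Ideal R₁).comap (Ideal.Quotient.mk P) = P
      rw [← RingHom.ker_eq_comap_bot, Ideal.mk_ker])
    rw [this] at h
    omega
  refine ⟨P', hPq, ?_, hP0, hzero⟩
  by_contra hne
  -- semicontinuity at `P`
  obtain ⟨Q, hQP, hQp, hQe⟩ : ∃ Q : PrimeSpectrum R, Q.asIdeal ≤ P ∧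
      Q.asIdeal.comap (algebraMap A R) = P.comap (algebraMap A R) ∧ e ≤ trd A Q := by
    rcases Nat.eq_zero_or_pos e with h0 | hpos
    · exact ⟨P', le_rfl, rfl, by omega⟩
    by_contra hno
    push Not at hno
    have hmem : P' ∈ {q : PrimeSpectrum R | ∀ q' : PrimeSpectrum R, q'.asIdeal ≤ q.asIdeal →
        q'.asIdeal.comap (algebraMap A R) = q.asIdeal.comap (algebraMap A R) → trd A q' ≤ e - 1} :=
      fun q' h1 h2 => by have := hno q' h1 h2; omega
    have hη : η ⤳ P' := (PrimeSpectrum.le_iff_specializes η P').1 (show (⊥ : Ideal R) ≤ P from bot_le)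
    have := hη.mem_open (FibDepth.isOpen_trd_le (A := A) (R := R) (e - 1)) hmem η le_rfl rfl
    change e ≤ e - 1 at this
    omega
  have hQ0 : Q.asIdeal ≠ ⊥ := fun h => hne (hQp.symm.trans (congrArg _ h))
  have h1 := add_trd_le_height (A := A) (Q := Q) (P := P') hQP hQp.symm hQ0
  have h2 : P.height ≤ (s.card : ℕ∞) := Ideal.height_le_card_of_mem_minimalPrimes_span_finset hP
  have h3 : trd A Q - trd A P' + 1 ≤ s.card := by exact_mod_cast h1.trans h2
  rw [hP0] at h3
  omega

end Groth.Agent.EGA43.Chevalley
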