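import Groth.Agent.EGA43.Chevalley.Fibre
import Groth.Agent.EGA43.GDomain
import Groth.Agent.DimLib.Formula
import Mathlib.AlgebraicGeometry.Stalk
import Mathlib.AlgebraicGeometry.Noetherian

/-!
# Transcendence degrees along one-dimensional generisations
-/

set_option autoImplicit false
set_option backward.isDefEq.respectTransparency false
set_option linter.style.haveILetI false

universe u

open CategoryTheory CategoryTheory.Limits AlgebraicGeometry TopologicalSpace

namespace Groth.Agent.EGA43.Chevalley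

open Groth.Agent

theorem trdeg_eq_of_ringEquiv {R S R' S' : Type u} [CommRing R] [CommRing S] [CommRing R'] [CommRing S']
    [IsDomain R] [IsDomain S'] [Algebra R S] [Algebra R' S'] [FaithfulSMul R' S'] (eR : R ≃+* R')
    (eS : S ≃+* S')
    (h : (eS : S →+* S').comp (algebraMap R S) = (algebraMap R' S').comp eR) :
    Algebra.trdeg R S = Algebra.trdeg R' S' := by
  let _ : Algebra R R' := (eR : R →+* R').toAlgebra
  let _ : Algebra R S' := ((algebraMap R' S').comp eR).toAlgebra
  haveI : IsScalarTower R R' S' := .of_algebraMap_eq' rfl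
  haveI : FaithfulSMul R R' := (faithfulSMul_iff_algebraMap_injective _ _).2 eR.injective
  haveI : IsDomain R' := eR.symm.injective.isDomain eR.symm.toRingHom
  haveI : Algebra.IsIntegral R R' :=
    ⟨fun x => ⟨Polynomial.X - Polynomial.C (eR.symm x), Polynomial.monic_X_sub_C _, by
      simp [RingHom.algebraMap_toAlgebra]⟩⟩
  have e1 := trdeg_add_eq R R' (A := S')
  have h0 : Algebra.trdeg R R' = 0 := trdeg_eq_zero
  rw [h0, zero_add] at e1
  rw [e1]
  exact (AlgEquiv.ofRingEquiv (f := eS) fun x => RingHom.congr_fun h x : S ≃ₐ[R] S').trdeg_eq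

/-- `trd` is the transcendence degree of the quotient domains. -/
theorem trd_eq_trdeg_quotient {A R : Type u} [CommRing A] [CommRing R] [Algebra A R]
    (p : Ideal A) [p.IsPrime] (q : PrimeSpectrum R) [q.asIdeal.LiesOver p] :
    FibDepth.trd A q = (Algebra.trdeg (A ⧸ p) (R ⧸ q.asIdeal)).toNat := by
  have hp : p = q.asIdeal.comap (algebraMap A R) := Ideal.LiesOver.over
  rw [FibDepth.trd_eq_trdegHom q hp]
  let j := Ideal.ResidueField.map p q.asIdeal (algebraMap A R) hp
  let _ : Algebra p.ResidueField q.asIdeal.ResidueField := j.toAlgebra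
  show (Algebra.trdeg p.ResidueField q.asIdeal.ResidueField).toNat = _
  let _ : Algebra (A ⧸ p) q.asIdeal.ResidueField :=
    ((algebraMap (R ⧸ q.asIdeal) q.asIdeal.ResidueField).comp (algebraMap (A ⧸ p) (R ⧸ q.asIdeal))).toAlgebra
  haveI : IsScalarTower (A ⧸ p) (R ⧸ q.asIdeal) q.asIdeal.ResidueField := .of_algebraMap_eq' rfl
  haveI : IsScalarTower (A ⧸ p) p.ResidueField q.asIdeal.ResidueField := .of_algebraMap_eq fun a => by
    obtain ⟨a, rfl⟩ := Ideal.Quotient.mk_surjective a
    show _ = j (algebraMap A p.ResidueField a)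
    rw [Ideal.ResidueField.map_algebraMap]
    rfl
  haveI : FaithfulSMul p.ResidueField q.asIdeal.ResidueField :=
    (faithfulSMul_iff_algebraMap_injective _ _).2 (RingHom.injective _)
  haveI : FaithfulSMul (A ⧸ p) (R ⧸ q.asIdeal) :=
    (faithfulSMul_iff_algebraMap_injective _ _).2
      (Ideal.quotientMap_injective' (by rw [← hp]))
  have h1 : Algebra.trdeg (A ⧸ p) p.ResidueField = 0 := by
    have : Algebra.IsAlgebraic (A ⧸ p) p.ResidueField := IsLocalization.isAlgebraic _ (nonZeroDivisors (A ⧸ p))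
    exact trdeg_eq_zero
  have h2 : Algebra.trdeg (R ⧸ q.asIdeal) q.asIdeal.ResidueField = 0 := by
    have : Algebra.IsAlgebraic (R ⧸ q.asIdeal) q.asIdeal.ResidueField :=
      IsLocalization.isAlgebraic _ (nonZeroDivisors (R ⧸ q.asIdeal))
    exact trdeg_eq_zero
  have e1 := trdeg_add_eq (A ⧸ p) p.ResidueField (A := q.asIdeal.ResidueField)
  have e2 := trdeg_add_eq (A ⧸ p) (R ⧸ q.asIdeal) (A := q.asIdeal.ResidueField)
  rw [h1, zero_add] at e1
  rw [h2, add_zero] at e2
  rw [e1, e2]

/-- Over an immediate generisation `p'` of `p`, transcendence degrees do not drop. -/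
theorem trd_le_of_height_le_one {A R : Type u} [CommRing A] [IsNoetherianRing A] [CommRing R] [Algebra A R]
    [Algebra.FiniteType A R] (q' q : PrimeSpectrum R) (hle : q'.asIdeal ≤ q.asIdeal)
    (hne : q'.asIdeal.comap (algebraMap A R) ≠ q.asIdeal.comap (algebraMap A R))
    (him : ∀ J : Ideal A, J.IsPrime → q'.asIdeal.comap (algebraMap A R) ≤ J →
      J ≤ q.asIdeal.comap (algebraMap A R) →
      J = q'.asIdeal.comap (algebraMap A R) ∨ J = q.asIdeal.comap (algebraMap A R)) :
    FibDepth.trd A q ≤ FibDepth.trd A q' := by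
  let p' := q'.asIdeal.comap (algebraMap A R)
  let p := q.asIdeal.comap (algebraMap A R)
  haveI : q'.asIdeal.LiesOver p' := ⟨rfl⟩
  haveI : q.asIdeal.LiesOver p := ⟨rfl⟩
  let A₀ := A ⧸ p'
  let R₀ := R ⧸ q'.asIdeal
  haveI : FaithfulSMul A₀ R₀ :=
    (faithfulSMul_iff_algebraMap_injective _ _).2 (Ideal.quotientMap_injective' le_rfl)
  haveI : Algebra.FiniteType A₀ R₀ := Algebra.FiniteType.of_restrictScalars_finiteType A _ _
  let P : Ideal A₀ := p.map (Ideal.Quotient.mk p')
  let Q : Ideal R₀ := q.asIdeal.map (Ideal.Quotient.mk q'.asIdeal)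
  have hPle : p' ≤ p := Ideal.comap_mono hle
  haveI : P.IsPrime := Ideal.map_isPrime_of_surjective Ideal.Quotient.mk_surjective (by rwa [Ideal.mk_ker])
  haveI : Q.IsPrime := Ideal.map_isPrime_of_surjective Ideal.Quotient.mk_surjective (by rwa [Ideal.mk_ker])
  have hPc : P.comap (Ideal.Quotient.mk p') = p := by
    rw [Ideal.comap_map_of_surjective _ Ideal.Quotient.mk_surjective, ← RingHom.ker_eq_comap_bot,
      Ideal.mk_ker, sup_eq_left.2 hPle]
  have hQc : Q.comap (Ideal.Quotient.mk q'.asIdeal) = q.asIdeal := by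
    rw [Ideal.comap_map_of_surjective _ Ideal.Quotient.mk_surjective, ← RingHom.ker_eq_comap_bot,
      Ideal.mk_ker, sup_eq_left.2 hle]
  haveI : Q.LiesOver P := ⟨by
    apply Ideal.comap_injective_of_surjective _ (Ideal.Quotient.mk_surjective (I := p'))
    rw [hPc, Ideal.under_def, Ideal.comap_comap]
    show Ideal.comap (algebraMap A R) q.asIdeal = _
    rw [← hQc, Ideal.comap_comap]
    rfl⟩
  have h := DimLib.height_add_trdeg_le (R := A₀) (S := R₀) P Q
  have hP1 : P.height ≤ 1 := by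
    by_contra hlt
    push Not at hlt
    rw [PrimeSpectrum.height_eq_orderHeight (⟨P, inferInstance⟩ : PrimeSpectrum A₀)] at hlt
    obtain ⟨J, hJ, hJ1⟩ : ∃ J : Ideal A₀, J.IsPrime ∧ ⊥ < J ∧ J < P := by
      by_contra hno
      push Not at hno
      refine hlt.not_ge ?_
      refine Order.height_le fun l hl => ?_
      by_contra hlen
      push Not at hlen
      have hl2 : 2 ≤ l.length := by
        have : (1 : ℕ∞) < l.length := hlen
        exact_mod_cast this
      have hJlt : (l ⟨1, by omega⟩).asIdeal < P := by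
        have h3 : l ⟨1, by omega⟩ < RelSeries.last l := by
          refine l.strictMono ?_
          rw [Fin.lt_def]; simp; omega
        rw [hl] at h3
        exact h3
      have hJ0 : (⊥ : Ideal A₀) < (l ⟨1, by omega⟩).asIdeal := by
        have h3 : RelSeries.head l < l ⟨1, by omega⟩ := by
          refine l.strictMono ?_
          rw [Fin.lt_def]; simp
        exact lt_of_le_of_lt bot_le h3
      exact hno _ (l ⟨1, by omega⟩).isPrime hJ0 hJlt
    have hJc : p' ≤ J.comap (Ideal.Quotient.mk p') := by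
      exact le_of_eq_of_le (Ideal.mk_ker (I := p')).symm (Ideal.ker_le_comap _)
    rcases him _ (Ideal.comap_isPrime _ J) hJc ((Ideal.comap_mono hJ1.2.le).trans hPc.le) with h4 | h4
    · apply hJ1.1.ne'
      rw [← Ideal.map_comap_of_surjective _ Ideal.Quotient.mk_surjective J, h4, Ideal.map_quotient_self]
    · apply hJ1.2.ne
      rw [← Ideal.map_comap_of_surjective _ Ideal.Quotient.mk_surjective J, h4]
  have hQ1 : 1 ≤ Q.height := by
    rw [Order.one_le_iff_pos, pos_iff_ne_zero, Ne, Ideal.height_eq_zero_iff]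
    intro hQ0
    have hQ0' : Q ∈ minimalPrimes R₀ := hQ0
    rw [IsDomain.minimalPrimes_eq_singleton_bot, Set.mem_singleton_iff] at hQ0'
    apply hne
    rw [← hQc, hQ0', ← RingHom.ker_eq_comap_bot, Ideal.mk_ker]
  let eA : A₀ ⧸ P ≃+* A ⧸ p := DoubleQuot.quotQuotEquivQuotOfLE hPle
  let eR : R₀ ⧸ Q ≃+* R ⧸ q.asIdeal := DoubleQuot.quotQuotEquivQuotOfLE hle
  have htr : Algebra.trdeg (A₀ ⧸ P) (R₀ ⧸ Q) = Algebra.trdeg (A ⧸ p) (R ⧸ q.asIdeal) := by
    refine trdeg_eq_of_ringEquiv eA eR (RingHom.ext fun a => ?_)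
    obtain ⟨b, rfl⟩ := Ideal.Quotient.mk_surjective a
    obtain ⟨c, rfl⟩ : ∃ c, Ideal.Quotient.mk p' c = b := Ideal.Quotient.mk_surjective b
    rfl
  rw [trd_eq_trdeg_quotient p q, trd_eq_trdeg_quotient p' q', ← htr]
  have hfin : Algebra.trdeg A₀ R₀ < Cardinal.aleph0 := trdeg_lt_aleph0_of_finiteType
  obtain ⟨m, hm⟩ := Cardinal.lt_aleph0.1 hfin
  rw [hm] at h ⊢
  have h1 : ((1 : ℕ∞) : Cardinal.{u}) + Algebra.trdeg (A₀ ⧸ P) (R₀ ⧸ Q) ≤ ((1 : ℕ∞) : Cardinal.{u}) + m :=
    le_trans (add_le_add (Cardinal.ofENat_le_ofENat.2 hQ1) le_rfl)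
      (le_trans h (add_le_add (Cardinal.ofENat_le_ofENat.2 hP1) le_rfl))
  simp only [Cardinal.ofENat_one] at h1
  have h2 : Algebra.trdeg (A₀ ⧸ P) (R₀ ⧸ Q) < Cardinal.aleph0 :=
    lt_of_le_of_lt (le_trans le_add_self h1) (by exact_mod_cast Cardinal.natCast_lt_aleph0 (n := 1 + m))
  obtain ⟨k, hk⟩ := Cardinal.lt_aleph0.1 h2
  rw [hk] at h1 ⊢
  norm_cast at h1
  simp only [Cardinal.toNat_natCast]
  omega

end Groth.Agent.EGA43.Chevalley
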