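import Groth.Agent.EGA43.Chevalley.Tfae
import Groth.Agent.EGA43.Chevalley.Section

/-!
# Chevalley's criterion over an irreducible base (EGA IV 14.4, 14.5)
-/

set_option autoImplicit false
set_option backward.isDefEq.respectTransparency false
set_option linter.style.haveILetI false

universe u

open CategoryTheory CategoryTheory.Limits AlgebraicGeometry TopologicalSpace

namespace Groth.Agent.EGA43.Chevalley

open Groth.Agent FlatMorWeight

variable {X Y : Scheme.{u}} [IrreducibleSpace Y] [IsLocallyNoetherian Y] (f : X ⟶ Y) [LocallyOfFiniteType f]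

omit [IsLocallyNoetherian Y] in
theorem isMaximalPt_genericPoint : IsMaximalPt (genericPoint Y) :=
  fun z hz => (hz.antisymm (genericPoint_specializes z)).eq

omit [IsLocallyNoetherian Y] in
theorem eq_genericPoint {η : Y} (h : IsMaximalPt η) : η = genericPoint Y :=
  (h _ (genericPoint_specializes η)).symm

theorem exists_section_of_le (x : X) (hcl : ∀ x' : X, f x' = f x → x ⤳ x' → x' = x) {ξ : X}
    (hξ : ξ ⤳ x) (hη : IsMaximalPt (f ξ))
    (hd : ∀ x', ξ ⤳ x' → x' ⤳ x → f x' = f x →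
      DimLib.trdegHom (f.residueFieldMap x').hom ≤ DimLib.trdegHom (f.residueFieldMap ξ).hom) :
    ∃ (T : Scheme.{u}) (i : T ⟶ X), IsImmersion i ∧ IrreducibleSpace ↥T ∧ IsReduced T ∧
      x ∈ Set.range i.base ∧ LocallyOfFiniteType (i ≫ f) ∧ LocallyQuasiFinite (i ≫ f) ∧
      QuasiCompact (i ≫ f) ∧ IsDominant (i ≫ f) := by
  obtain ⟨T, i, hT, h1, h2, h3, h4, h5, h6, h7⟩ := exists_section f hξ hcl hd
  refine ⟨T, i, h1, hT, h2, h3, h4, h5, h6, ⟨fun y => ?_⟩⟩
  refine closure_mono (Set.singleton_subset_iff.2 (Set.mem_range_self (f := (i ≫ f).base) (genericPoint T))) ?_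
  rw [show (i ≫ f).base (genericPoint T) = genericPoint Y from h7.trans (eq_genericPoint hη)]
  exact specializes_iff_mem_closure.1 (genericPoint_specializes y)

/-- EGA IV 14.5.4. -/
theorem exists_section_of_isEquidimAt (x : X) (hf : EGA43.IsEquidimAt f x)
    (hcl : ∀ x' : X, f x' = f x → x ⤳ x' → x' = x) :
    ∃ (T : Scheme.{u}) (i : T ⟶ X), IsImmersion i ∧ IrreducibleSpace ↥T ∧ IsReduced T ∧
      x ∈ Set.range i.base ∧ LocallyOfFiniteType (i ≫ f) ∧ LocallyQuasiFinite (i ≫ f) ∧
      QuasiCompact (i ≫ f) ∧ IsDominant (i ≫ f) := by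
  obtain ⟨e, U, hxU, hc, hd⟩ := (isEquidimAt_iff f x).1 hf
  obtain ⟨ξ, hξ, W, hW, hgen⟩ := exists_isMaximalPt_specializes x
  have hξU : ξ ∈ U := hξ.mem_open U.isOpen hxU
  have hmax := isMaximalPt_of_isGenericPoint hW hgen
  refine exists_section_of_le f x hcl hξ (hc ξ hξU hmax).1 fun x' h1 h2 _ => ?_
  rw [hd ξ hξU fun w hw _ => hmax w hw]
  obtain ⟨z, hz, hzf, hzmax⟩ := exists_maximal_in_fibre f x'
  have hzU : z ∈ U := hz.mem_open U.isOpen (h2.mem_open U.isOpen hxU)
  rw [← hd z hzU fun w hw he => hzmax w hw (he.trans hzf)]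
  exact trdegHom_le_of_specializes f hz hzf

omit [IrreducibleSpace Y] [IsLocallyNoetherian Y] in
/-- Openness at the closed points of a fibre gives openness along the fibre. -/
theorem isOpenAt_of_forall_closed (y : Y)
    (h : ∀ x : X, f x = y → (∀ x', f x' = y → x ⤳ x' → x' = x) → EGA43.IsOpenAt f.base x)
    (x : X) (hx : f x = y) : EGA43.IsOpenAt f.base x := by
  haveI : JacobsonSpace (f.fiber y) :=
    haveI : LocallyOfFiniteType (f.fiberToSpecResidueField y) :=
      inferInstanceAs (LocallyOfFiniteType (Limits.pullback.snd f (Y.fromSpecResidueField y)))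
    LocallyOfFiniteType.jacobsonSpace (f.fiberToSpecResidueField y)
  let S : Set ↥(f.fiber y) := {a | EGA43.IsOpenAt f.base (f.fiberι y a)}
  let c : ↥(f.fiber y) → ↥(f.base ⁻¹' {y}) := fun a => ⟨f.fiberι y a, apply_fiberι f y a⟩
  have hS : IsClosed S :=
    (EGA43.isClosed_setOf_isOpenAt f.base y).preimage (show Continuous c by fun_prop)
  have hsub : closedPoints ↥(f.fiber y) ⊆ S := fun a ha => by
    refine h _ (apply_fiberι f y a) fun x' hx' hs => ?_
    obtain ⟨b, rfl⟩ : x' ∈ Set.range (f.fiberι y) := by rw [f.range_fiberι]; exact hx'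
    have hab : a ⤳ b := (f.fiberι y).isEmbedding.isInducing.specializes_iff.1 hs
    rw [show b = a from hab.mem_closed (mem_closedPoints_iff.1 ha) rfl]
  obtain ⟨a, rfl⟩ : x ∈ Set.range (f.fiberι y) := by rw [f.range_fiberι]; exact hx
  exact hS.closure_subset_iff.2 hsub (by rw [closure_closedPoints]; trivial)

/-- EGA IV 14.5.? : Chevalley's criterion over an irreducible base. -/
theorem tfae_irreducible (y : Y) (hy : CAlg2.IsGeomUnibranch (Y.presheaf.stalk y)) :
    List.TFAE [∀ x : X, f.base x = y → EGA43.IsUnivOpenAt f x,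
      ∀ x : X, f.base x = y → EGA43.IsOpenAt f.base x,
      ∀ z : X, ∀ hzy : f.base z = y, (∀ z' : X, f.base z' = y → z ∈ closure {z'} → z' = z) →
        ∃ Z ∈ irreducibleComponents (X : Type u), ∃ hz : z ∈ Z, Dense (f.base '' Z) ∧
          FlatMor.localDim ↥(Z ∩ f.base ⁻¹' {y}) ⟨z, ⟨hz, hzy⟩⟩ = topologicalKrullDim ↥(Z ∩ f.base ⁻¹' {genericPoint Y}),
      ∀ x : X, f.base x = y → (∀ x' : X, f.base x' = y → x ⤳ x' → x' = x) →
        ∃ (T : Scheme.{u}) (i : T ⟶ X), IsImmersion i ∧ IrreducibleSpace ↥T ∧ IsReduced T ∧ x ∈ Set.range i.base ∧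
        LocallyOfFiniteType (i ≫ f) ∧ LocallyQuasiFinite (i ≫ f) ∧ QuasiCompact (i ≫ f) ∧ IsDominant (i ≫ f)] := by
  have lift {x : X} (h : EGA43.IsOpenAt f.base x) : ∀ y', y' ⤳ f x → ∃ x', x' ⤳ x ∧ f x' = y' :=
    fun y' hy' => H8ProCons.exists_generization_of_isOpenAt f h hy'
  tfae_have 1 → 2 := fun h x hx => isOpenAt_of_isUnivOpenAt f (h x hx)
  tfae_have 2 → 1 := ((tfae_fibre f y hy).out 3 0).1
  tfae_have 2 → 3 := fun h z hzy hmax => by
    subst hzy
    have hmax' : ∀ w, w ⤳ z → f w = f z → w = z := fun w h1 h2 => hmax w h2 (specializes_iff_mem_closure.1 h1)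
    obtain ⟨a, ha, haη, hd⟩ := exists_generization_trdegHom_le f z hmax' (lift (h z rfl))
      (genericPoint_specializes (f z))
    obtain ⟨Z, hZ, hzZ, hcl, hdim⟩ := exists_component f z hmax' isMaximalPt_genericPoint ha haη hd
    refine ⟨Z, hZ, hzZ, ?_, hdim⟩
    rw [dense_iff_closure_eq, hcl]
    exact genericPoint_spec Y
  tfae_have 3 → 1 := fun h x hx => by
    obtain ⟨z, hz, hzf, hzmax⟩ := exists_maximal_in_fibre f x
    have hzy : f z = y := hzf.trans hx
    subst hzy
    have hmax' : ∀ w, w ⤳ z → f w = f z → w = z := fun w hw he => hzmax w hw (he.trans hzf)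
    obtain ⟨Z, hZ, hzZ, hD, hdim⟩ := h z rfl fun z' h1 h2 => hmax' z' (specializes_iff_mem_closure.2 h2) h1
    obtain ⟨a, ha, haη, hd⟩ := exists_generization_of_component f z hmax' hZ hzZ
      (hD.closure_eq.trans (genericPoint_spec Y).symm) hdim
    refine isUnivOpenAt_of_specializes f hz hzf ?_
    refine isUnivOpenAt_of_trdegHom f ha (haη.symm ▸ isMaximalPt_genericPoint) hy fun x' _ h2 h3 => ?_
    rw [hmax' x' h2 h3]
    exact hd
  tfae_have 2 → 4 := fun h x hx hcl => by
    subst hx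
    obtain ⟨z, hz, hzf, hzmax, hzd⟩ := exists_maximal_fibreDimAt f x
    obtain ⟨a, ha, haη, hd⟩ := exists_generization_trdegHom_le f z hzmax (lift (h z hzf))
      (genericPoint_specializes (f z))
    refine exists_section_of_le f x hcl (ha.trans hz) (haη.symm ▸ isMaximalPt_genericPoint)
      fun x' _ h2 h3 => le_trans ?_ hd
    exact (FlatMorDim.fibreDimAt_le_iff f x _).1 hzd.le x' h3 h2
  tfae_have 4 → 2 := fun h => isOpenAt_of_forall_closed f y fun x hx hcl => by
    obtain ⟨T, i, -, hT, -, ⟨t, rfl⟩, _, _, -, hdom⟩ := h x hx hcl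
    haveI := hT
    have hgen : (i ≫ f) (genericPoint T) = genericPoint Y := by
      haveI := hdom
      exact Unibranch.map_genericPoint_of_isDominant (i ≫ f)
    have h1 := isOpenAt_of_quasiFinite (i ≫ f) (hgen.symm ▸ isMaximalPt_genericPoint) t
      (by
        have : (i ≫ f) t = y := hx
        rw [this]; exact hy)
    exact EGA43.isOpenAt_of_comp (f := i.base) i.continuous.continuousAt h1
  tfae_finish

end Groth.Agent.EGA43.Chevalley
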