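import Groth.Prelude.Def_CAlg2
import Groth.Agent.FlatMorWeight.UnibranchOpen
import Mathlib.AlgebraicGeometry.Stalk

/-!
# The branch through a unibranch point
-/

set_option autoImplicit false
set_option backward.isDefEq.respectTransparency false

universe u

open CategoryTheory AlgebraicGeometry TopologicalSpace

namespace Groth.Agent.EGA43.Chevalley

open Groth.Agent FlatMorWeight

variable {Y : Scheme.{u}} {y : Y}

/-- Through a unibranch point passes only one irreducible component. -/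
theorem exists_forall_specializes (hy : CAlg2.IsUnibranch (Y.presheaf.stalk y)) :
    ∃ ζ : Y, ζ ⤳ y ∧ ∀ z : Y, z ⤳ y → ζ ⤳ z := by
  haveI := hy.1
  let A := Y.presheaf.stalk y
  have hN : (nilradical A).IsPrime := (Ideal.Quotient.isDomain_iff_prime _).1 hy.1
  let ζ₀ : Spec A := ⟨nilradical A, hN⟩
  refine ⟨Y.fromSpecStalk y ζ₀, ?_, fun z hz => ?_⟩
  · exact (Scheme.range_fromSpecStalk (X := Y) (x := y)).le ⟨ζ₀, rfl⟩
  · obtain ⟨w, rfl⟩ := (Scheme.range_fromSpecStalk (X := Y) (x := y)).ge hz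
    exact ((PrimeSpectrum.le_iff_specializes ζ₀ w).1 (nilradical_le_prime w.asIdeal)).map
      (Y.fromSpecStalk y).continuous

theorem eq_of_isMaximalPt (hy : CAlg2.IsUnibranch (Y.presheaf.stalk y)) {a b : Y}
    (ha : IsMaximalPt a) (hay : a ⤳ y) (hb : IsMaximalPt b) (hby : b ⤳ y) : a = b := by
  obtain ⟨ζ, -, hζ⟩ := exists_forall_specializes hy
  rw [← ha ζ (hζ a hay), ← hb ζ (hζ b hby)]

/-- A locally Noetherian scheme is irreducible near a unibranch point. -/
theorem exists_irreducible_nhd [IsLocallyNoetherian Y]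
    (hy : CAlg2.IsUnibranch (Y.presheaf.stalk y)) :
    ∃ W : Y.Opens, y ∈ W ∧ IrreducibleSpace W := by
  obtain ⟨ζ, hζy, hζ⟩ := exists_forall_specializes hy
  obtain ⟨V, hV, hyV, -⟩ := exists_isAffineOpen_mem_and_subset (x := y) (U := ⊤) (Set.mem_univ _)
  haveI : IsAffine V.toScheme := hV
  haveI : IsNoetherian V.toScheme := { }
  let S : Set (Set V.toScheme) :=
    {C ∈ irreducibleComponents V.toScheme | (⟨y, hyV⟩ : V.toScheme) ∉ C}
  have hS : S.Finite :=
    TopologicalSpace.NoetherianSpace.finite_irreducibleComponents.subset fun C hC => hC.1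
  let W₀ : V.toScheme.Opens := ⟨(⋃ C ∈ S, C)ᶜ, (hS.isClosed_biUnion fun C hC =>
    isClosed_of_mem_irreducibleComponents C hC.1).isOpen_compl⟩
  let W : Y.Opens := V.ι ''ᵁ W₀
  have hyW : y ∈ W := ⟨⟨y, hyV⟩, by
    show _ ∈ (⋃ C ∈ S, C)ᶜ
    simp only [Set.mem_compl_iff, Set.mem_iUnion, not_exists]
    exact fun C hC hz => hC.2 hz, rfl⟩
  have hW : ∀ w ∈ W, ζ ⤳ w := by
    rintro _ ⟨w, hw, rfl⟩
    obtain ⟨η, hη, C, hC, hgen⟩ := exists_isMaximalPt_specializes w
    have hyC : (⟨y, hyV⟩ : V.toScheme) ∈ C := by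
      by_contra h
      exact hw (Set.mem_biUnion (x := C) ⟨hC, h⟩ (hgen.specializes_iff_mem.1 hη))
    exact (hζ _ ((hgen.specializes hyC).map V.ι.continuous)).trans (hη.map V.ι.continuous)
  refine ⟨W, hyW, ?_⟩
  let ζ' : W := ⟨ζ, hζy.mem_open W.isOpen hyW⟩
  have hgen : IsGenericPoint ζ' (⊤ : Set W) := by
    refine isGenericPoint_def.2 (Set.eq_univ_of_forall fun w => ?_)
    exact specializes_iff_mem_closure.1 (Topology.IsInducing.subtypeVal.specializes_iff.1 (hW w w.2))
  exact { isPreirreducible_univ := hgen.isIrreducible.isPreirreducible, toNonempty := ⟨ζ'⟩ }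

end Groth.Agent.EGA43.Chevalley
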